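import Mathlib

/-! Letters, edges and relator paths of the Lyons certificate (generated data). -/

set_option autoImplicit false
set_option maxRecDepth 100000
set_option linter.all false

namespace H97.Ly.Data

def wordTab : List (List ℕ) := [
  [0],
  [1],
  [2],
  [3],
  [4],
  [5],
  [6],
  [7],
  [8],
  [9],
  [0],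
  [2, 0, 3],
  [2, 2, 0, 3, 3],
  [4],
  [1, 4, 0],
  [3, 4, 2],
  [2, 4, 3],
  [5, 1, 5, 0, 4, 1, 4, 0],
  [1, 1, 1],
  [2, 1, 3, 1, 1],
  [0, 2, 2, 0, 3, 3, 1],
  [1, 3, 1, 2, 5, 3, 0, 5, 2, 0],
  [3, 3, 0, 4, 1, 2, 4, 2],
  [1, 3, 1, 4, 0, 2, 0],
  [3, 1, 2, 4, 3, 0, 2],
  [2, 2, 1, 3, 4, 2, 0, 4, 3, 3, 5],
  [0, 0, 2, 0, 3, 1, 4, 0, 3, 4, 2, 2, 0, 3, 0, 1, 4, 0],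
  [0, 0, 0, 2, 2, 0, 3, 3, 2, 4, 3, 2, 4, 3, 2, 0, 3, 2, 4, 3],
  [0, 1, 4, 0, 0, 2, 2, 0, 3, 3, 0, 5, 1, 5, 0, 4, 1, 4, 0, 2, 0, 3, 6, 4, 1, 5, 1, 8, 1],
  [0, 0, 0, 2, 4, 3, 0, 0, 2, 0, 3, 0, 6, 5, 0, 3, 1, 8, 3],
  [0, 2, 0, 3, 3, 4, 2, 2, 2, 0, 3, 3, 0, 6, 4, 2, 5, 1, 3, 1],
  [0, 2, 2, 0, 3, 3, 4, 2, 0, 3, 2, 2, 0, 3, 3, 3, 4, 2, 0, 2, 0, 3, 3, 6, 8, 3, 8, 6],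
  [0, 2, 0, 3, 2, 4, 3, 0, 2, 0, 3, 2, 2, 0, 3, 3, 2, 0, 3, 0, 3, 4, 2, 6, 4, 2, 7, 8, 4],
  [0, 0, 0, 1, 4, 0, 1, 4, 0, 2, 2, 0, 3, 3, 6, 4, 4, 7],
  [2, 2, 0, 3, 3, 2, 0, 3, 0, 4, 5, 1, 5, 0, 4, 1, 4, 0, 2, 0, 3, 8, 0, 8, 3, 0, 2]]

def base : List ℕ := [0, 66, 193, 194, 195]

def numEdges : ℕ := 91

def sgTab : List (List ℕ) := [[0, 2, 4, 6], [26, 27], [28, 29, 30], [31, 32], [33, 34]]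

def srcTab : List ℕ := [0, 1, 1, 1, 1, 1, 1, 1, 1, 1, 1, 1, 1, 1, 1, 1, 1, 1, 1, 1, 1, 1, 1, 1, 1, 1, 1, 1, 1, 1, 2, 2, 2, 2, 1, 3, 2, 3, 3, 2, 3, 2, 3, 3, 3, 2, 3, 3, 2, 3, 3, 3, 3, 3, 3, 3, 3, 3, 3, 2, 3, 2, 3, 2, 2, 3, 3, 3, 3, 3, 2, 3, 1, 4, 4, 4, 2, 4, 4, 3, 4, 2, 4, 3, 2, 4, 4, 3, 4, 2, 4]

def dstTab : List ℕ := [1, 0, 1, 1, 1, 1, 1, 1, 1, 1, 1, 1, 1, 1, 1, 1, 1, 1, 1, 1, 1, 1, 1, 1, 1, 1, 1, 1, 1, 2, 1, 2, 2, 2, 3, 1, 3, 2, 3, 3, 2, 3, 2, 3, 3, 3, 2, 2, 3, 3, 3, 3, 3, 3, 3, 3, 3, 3, 2, 3, 3, 2, 3, 2, 3, 2, 3, 3, 3, 3, 3, 2, 4, 1, 4, 2, 4, 4, 3, 4, 2, 4, 3, 4, 4, 2, 3, 4, 4, 4, 2]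

def rootTab : List ℕ := [0, 0, 68, 604, 1, 3, 582, 2025, 438, 19, 70, 2216, 4, 2, 22, 72, 227, 154, 27, 1993, 2026, 1963, 2038, 1985, 66, 1221, 2391, 74, 5, 6, 0, 1, 43, 42, 8, 0, 6, 129, 6, 9, 20, 8, 76, 7, 29, 13, 9, 45, 30, 13, 5, 42, 40, 59, 647, 30, 1, 8, 46, 10, 43, 29, 56, 78, 11, 147, 12, 85, 88, 35, 59, 635, 28, 0, 41, 13, 283, 5, 9, 10, 18, 5, 1, 2, 39, 57, 37, 39, 50, 7, 86]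

def nwTab : List (List ℕ) := [
  [],
  [],
  [1, 4, 1, 9, 3],
  [3, 0, 5, 1, 9],
  [3],
  [2],
  [2, 1, 5, 9],
  [3, 4, 3, 0, 9],
  [5, 3, 3, 1, 9],
  [4, 0, 9],
  [4, 1, 9],
  [2, 5, 5, 0, 9],
  [1, 2],
  [3, 3],
  [9, 3],
  [0, 3, 1, 9],
  [0, 2, 1, 9],
  [3, 1, 9, 2],
  [1, 5, 0, 9],
  [4, 4, 3, 1, 9],
  [2, 4, 4, 1, 9, 2],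
  [1, 4, 3, 0, 9],
  [0, 4, 3, 1, 9],
  [9, 2, 4, 7, 9],
  [9, 2],
  [2, 5, 0, 9],
  [9, 5, 6, 9, 3],
  [1, 5, 1, 9],
  [9],
  [6, 9],
  [],
  [3],
  [1, 4, 0, 4, 1, 5, 7],
  [9, 0, 4, 1, 9, 7, 3, 3],
  [7, 5, 7, 9],
  [],
  [6, 9],
  [3, 4, 9, 1, 9, 4, 7],
  [6, 9],
  [7, 4, 9, 0, 9],
  [0, 9],
  [7, 5, 7, 9],
  [9, 7, 3],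
  [4, 6, 9],
  [9, 7],
  [5, 9],
  [7, 4, 9, 0, 9],
  [0, 5, 1, 4, 1, 5, 7],
  [2, 9, 7],
  [5, 9],
  [9],
  [9, 0, 4, 1, 9, 7, 3, 3],
  [0, 5, 1, 4, 0, 4, 7],
  [1, 4, 7],
  [1, 5, 9, 0, 5, 7, 3, 3],
  [2, 9, 7],
  [3],
  [7, 5, 7, 9],
  [5, 1, 4, 1, 5, 7],
  [3, 5, 7, 1, 2],
  [1, 4, 0, 4, 1, 5, 7],
  [9, 7],
  [5, 0, 4, 1, 4, 7],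
  [0, 2, 9, 7, 3],
  [5, 7, 1, 2],
  [1, 4, 7, 3, 3],
  [7, 1, 2],
  [9, 0, 4, 6, 1, 5, 7],
  [3, 9, 4, 6, 5, 5, 7],
  [4, 7],
  [1, 4, 7],
  [2, 0, 9, 3, 9, 7, 2],
  [7],
  [],
  [2, 4, 9, 1, 9, 4, 7],
  [5, 9],
  [7, 1, 3, 1, 9],
  [9],
  [7, 4, 9, 0, 9],
  [3, 5, 7, 1, 2],
  [1, 4, 0, 9],
  [9],
  [3],
  [3, 3],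
  [5, 1, 4, 0, 4, 7],
  [0, 4, 1, 4, 7],
  [4, 0, 4, 7],
  [5, 1, 4, 0, 4, 7],
  [5, 0, 4, 0, 4, 7],
  [4, 6, 9],
  [4, 9, 1, 9, 4, 7]]

def mwTab : List (List ℕ) := [
  [],
  [0, 0],
  [2, 2, 0, 3, 3, 4, 3, 4, 2, 3, 4, 2, 2, 0, 3, 2, 2, 0, 3, 3, 0, 2, 2, 0, 3, 3, 8, 6, 5, 3, 8],
  [0, 0, 0, 2, 4, 3, 3, 4, 2, 5, 1, 5, 0, 4, 1, 4, 0, 0, 8, 0, 5, 5, 3],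
  [0, 0, 0, 2, 0, 3, 2, 2, 0, 3, 3, 3],
  [0, 2, 2, 0, 3, 3, 0, 2, 0, 3, 0, 2],
  [3, 4, 2, 0, 0, 2, 2, 0, 3, 3, 2, 0, 3, 1, 4, 0, 0, 8, 1, 4, 3],
  [0, 0, 2, 2, 0, 3, 3, 3, 4, 2, 0, 3, 4, 2, 2, 4, 3, 8, 0, 5, 5, 3],
  [0, 2, 0, 3, 2, 4, 3, 0, 4, 2, 2, 0, 3, 3, 8, 0, 5, 5, 3],
  [4, 5, 1, 5, 0, 4, 1, 4, 0, 2, 2, 0, 3, 3, 1, 4, 0, 1, 4, 0, 2, 4, 3, 8, 6, 5, 3, 8],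
  [0, 0, 0, 0, 0, 5, 1, 5, 0, 4, 1, 4, 0, 2, 0, 3, 2, 2, 0, 3, 3, 2, 4, 3, 8, 6, 5, 3, 8],
  [0, 2, 0, 3, 2, 4, 3, 3, 4, 2, 1, 4, 0, 0, 2, 2, 0, 3, 3, 8, 1, 4, 3],
  [2, 0, 3, 0, 2, 2, 0, 3, 3, 2, 0, 3, 2],
  [2, 0, 3, 0, 2, 2, 0, 3, 3, 0, 3, 0],
  [0, 0, 2, 0, 3, 2, 2, 0, 3, 3, 4, 2, 4, 3, 0, 2, 0, 3, 0, 2, 2, 0, 3, 3, 8, 6, 5, 3, 8],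
  [0, 2, 2, 0, 3, 3, 2, 0, 3, 4, 3, 4, 2, 0, 3, 4, 2, 0, 2, 8, 0, 5, 3],
  [0, 2, 0, 3, 1, 4, 0, 2, 2, 0, 3, 3, 2, 4, 3, 5, 1, 5, 0, 4, 1, 4, 0, 8, 1, 4, 3],
  [1, 4, 0, 2, 2, 0, 3, 3, 4, 3, 4, 2, 3, 4, 2, 2, 8, 0, 5, 3],
  [0, 0, 2, 2, 0, 3, 3, 0, 3, 4, 2, 5, 1, 5, 0, 4, 1, 4, 0, 8, 6, 5, 3, 8],
  [2, 2, 0, 3, 3, 0, 2, 4, 3, 4, 2, 0, 3, 1, 4, 0, 2, 8, 0, 5, 3],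
  [0, 2, 0, 3, 2, 2, 0, 3, 3, 0, 2, 4, 3, 2, 2, 0, 3, 3, 1, 4, 0, 3, 4, 2, 8, 1, 4, 3],
  [2, 0, 3, 2, 2, 0, 3, 3, 2, 4, 3, 0, 2, 4, 3, 2, 0, 3, 2, 4, 3, 2, 4, 3, 2, 8, 0, 5, 3],
  [0, 0, 4, 2, 0, 3, 1, 4, 0, 0, 2, 4, 3, 2, 2, 0, 3, 3, 2, 0, 3, 2, 8, 0, 5, 3],
  [2, 2, 0, 3, 3, 2, 4, 3, 0, 1, 4, 0, 2, 0, 3, 2, 2, 0, 3, 3, 8, 0, 2, 4, 0],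
  [2, 4, 3, 0, 3, 4, 2, 2, 0, 3, 2, 2, 0, 3, 3, 0, 2, 2, 0, 3, 3, 8, 6, 5, 3, 8],
  [1, 4, 0, 2, 2, 0, 3, 3, 0, 1, 4, 0, 2, 0, 3, 1, 4, 0, 8, 1, 4, 3],
  [0, 2, 0, 3, 0, 4, 3, 4, 2, 5, 1, 5, 0, 4, 1, 4, 0, 2, 2, 0, 3, 3, 2, 0, 3, 0, 8, 4, 0, 3, 0],
  [4, 1, 4, 0, 0, 2, 4, 3, 2, 2, 0, 3, 3, 1, 4, 0, 2, 0, 3, 8, 6, 5, 3, 8],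
  [2, 0, 3, 2, 2, 0, 3, 3, 3, 4, 2, 2, 0, 3, 1, 4, 0, 5, 1, 5, 0, 4, 1, 4, 0, 8, 6, 5, 3, 8],
  [],
  [6, 8, 0, 0],
  [2, 4, 3, 0, 2, 0, 3, 2, 2, 0, 3, 3, 2, 4, 3, 3, 4, 2, 0, 3],
  [0, 3, 4, 2, 0, 2, 0, 3, 1, 4, 0, 1, 4, 0, 2, 2, 0, 3, 3, 0, 2, 0, 3, 8, 1, 6, 8, 3],
  [3, 4, 2, 2, 2, 0, 3, 3, 2, 4, 3, 5, 1, 5, 0, 4, 1, 4, 0, 0, 2, 2, 0, 3, 3, 6, 4, 8, 2, 8, 0],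
  [],
  [6, 4, 6, 8, 0, 0],
  [0, 2, 0, 3, 1, 4, 0, 0, 2, 0, 3, 1, 4, 0, 0, 0, 8, 0, 4, 2, 8],
  [0, 0, 0, 0, 2, 4, 3, 2, 2, 0, 3, 3, 2, 4, 3, 2, 0, 3, 2, 2, 0, 3, 3, 8, 0, 6, 5, 3, 3],
  [2, 2, 0, 3, 3, 0, 2, 0, 3, 0, 1, 4, 0, 2, 2, 0, 3, 3, 0, 4, 2, 0, 3, 6, 4, 7, 5, 8, 7, 5],
  [0, 1, 4, 0, 2, 4, 3, 3, 4, 2, 3, 4, 2, 2, 0, 3, 3, 4, 2, 6, 4, 2, 8, 4, 0],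
  [2, 0, 3, 4, 4, 4, 2, 0, 3, 6, 8, 4, 2, 1, 3, 8],
  [0, 0, 3, 4, 2, 2, 4, 3, 0, 5, 1, 5, 0, 4, 1, 4, 0, 2, 2, 0, 3, 3, 3, 4, 2, 3, 0, 6, 5, 2, 1, 5],
  [0, 0, 3, 4, 2, 2, 0, 3, 0, 2, 2, 0, 3, 3, 2, 0, 3, 1, 4, 0, 2, 2, 0, 3, 3, 6, 4, 0, 5, 2, 4, 2, 6],
  [1, 4, 0, 0, 2, 0, 3, 3, 4, 2, 2, 4, 3, 2, 4, 3, 2, 6, 5, 1, 4, 1],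
  [4, 1, 4, 0, 0, 2, 2, 0, 3, 3, 2, 0, 3, 1, 4, 0, 2, 2, 0, 3, 3, 2, 6, 4, 2, 4, 6, 8, 7],
  [3, 4, 2, 1, 4, 0, 2, 2, 0, 3, 3, 3, 4, 2, 2, 0, 3, 0, 2, 2, 0, 3, 3, 8, 6, 5, 3, 8],
  [2, 2, 0, 3, 3, 1, 4, 0, 0, 2, 0, 3, 3, 4, 2, 2, 4, 3, 3, 4, 2, 3, 8, 0, 2],
  [0, 0, 3, 4, 2, 0, 0, 2, 4, 3, 2, 2, 0, 3, 3, 5, 1, 5, 0, 4, 1, 4, 0, 8, 4, 0, 6],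
  [0, 0, 2, 2, 0, 3, 3, 0, 2, 4, 3, 0, 2, 0, 3, 0, 2, 2, 6, 4, 1, 8, 2],
  [2, 2, 0, 3, 3, 4, 3, 4, 2, 0, 2, 2, 0, 3, 3, 4, 2, 0, 3, 2, 4, 3, 2, 6, 5, 5, 8, 0],
  [0, 2, 0, 3, 4, 1, 4, 0, 4, 2, 2, 0, 3, 3, 0, 4, 8, 6, 5, 3, 8],
  [2, 0, 3, 2, 2, 0, 3, 3, 3, 4, 2, 3, 4, 2, 3, 4, 2, 3, 4, 2, 0, 2, 2, 0, 3, 3, 2, 6, 4, 2, 2, 0, 8, 7],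
  [0, 0, 2, 2, 0, 3, 3, 2, 4, 3, 0, 5, 1, 5, 0, 4, 1, 4, 0, 2, 0, 3, 6, 4, 2, 6, 8, 0, 6],
  [0, 2, 2, 0, 3, 3, 4, 2, 0, 3, 0, 2, 2, 0, 3, 3, 3, 4, 2, 2, 0, 3, 5, 1, 5, 0, 4, 1, 4, 0, 3, 6, 8, 4, 6, 8, 3],
  [0, 3, 4, 2, 2, 0, 3, 2, 4, 3, 3, 4, 2, 2, 2, 0, 3, 3, 2, 0, 3, 0, 3, 0, 6, 8, 4, 6, 4, 2],
  [0, 0, 0, 0, 0, 2, 0, 3, 1, 4, 0, 2, 2, 0, 3, 3, 4, 3, 4, 2, 2, 6, 4, 2, 5, 2, 0, 2],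
  [0, 2, 2, 0, 3, 3, 2, 4, 3, 2, 2, 0, 3, 3, 4, 1, 4, 0, 4, 3],
  [2, 0, 3, 0, 3, 4, 2, 2, 0, 3, 0, 2, 2, 0, 3, 3, 2, 4, 3, 0, 8, 7, 5, 3, 4, 1],
  [0, 0, 2, 0, 3, 0, 2, 2, 0, 3, 3, 2, 0, 3, 4, 4, 8, 1, 3, 8],
  [0, 0, 0, 2, 2, 0, 3, 3, 4, 3, 4, 2, 2, 0, 3, 2, 2, 0, 3, 3, 0, 2, 0, 3, 8, 1, 6, 4, 7, 4, 1],
  [0, 0, 0, 2, 0, 3, 3, 4, 2, 2, 0, 3, 3, 4, 2, 2, 4, 3, 6, 8, 2, 0, 7],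
  [0, 4, 2, 4, 3, 2, 0, 3, 0, 3, 4, 2, 2, 6, 8, 4, 8, 5, 1],
  [2, 2, 0, 3, 3, 3, 4, 2, 2, 0, 3, 4, 2, 2, 0, 3, 3, 2, 0, 3, 3, 6, 4, 8, 0, 5, 0],
  [0, 2, 0, 3, 1, 4, 0, 0, 2, 2, 0, 3, 3, 2, 0, 3, 0, 3, 4, 2, 2, 2, 0, 3, 3, 3, 6, 8, 5, 2, 8, 5],
  [2, 4, 3, 2, 2, 0, 3, 3, 0, 2, 2, 0, 3, 3, 1, 4, 0, 2, 4, 3, 2, 6, 8, 1, 6, 4, 3],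
  [2, 0, 3, 0, 4, 1, 4, 0, 3, 4, 2, 1, 4, 0, 6, 8, 5, 6, 8, 3],
  [0, 0, 3, 4, 2, 0, 2, 0, 3, 5, 1, 5, 0, 4, 1, 4, 0, 2, 2, 0, 3, 3, 4, 2, 2, 0, 3, 3, 2, 8, 6, 4, 6, 4, 1, 8],
  [1, 4, 0, 2, 2, 0, 3, 3, 5, 1, 5, 0, 4, 1, 4, 0, 0, 2, 0, 3, 2, 2, 0, 3, 3, 6, 5, 0, 4, 4, 8, 2],
  [0, 2, 2, 0, 3, 3, 2, 4, 3, 0, 4, 2, 2, 0, 3, 3, 4, 6, 5, 1, 4, 3, 3, 8],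
  [2, 4, 3, 0, 3, 4, 2, 2, 0, 3, 2, 2, 0, 3, 3, 0, 1, 4, 0, 2, 6, 4, 0, 8],
  [0, 2, 0, 3, 2, 2, 0, 3, 3, 2, 4, 3, 2, 4, 3, 2, 0, 3, 1, 4, 0, 2, 6, 8, 5, 7, 4, 4, 2],
  [0, 3, 4, 2, 0, 1, 4, 0, 0, 2, 0, 3, 2, 4, 3, 0, 6, 4, 1, 6, 8, 6],
  [],
  [0, 0, 6],
  [0, 2, 2, 0, 3, 3, 0, 2, 4, 3, 5, 1, 5, 0, 4, 1, 4, 0, 2, 0, 3, 0, 6, 8, 5, 1, 3, 6, 4],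
  [2, 2, 0, 3, 3, 3, 4, 2, 0, 0, 2, 0, 3, 3, 4, 2, 0, 0, 0, 2, 6, 8, 2, 4, 3, 4],
  [2, 0, 3, 2, 2, 0, 3, 3, 0, 2, 2, 0, 3, 3, 2, 4, 3, 2, 2, 0, 3, 3, 2, 4, 3, 8, 0, 4, 0, 2],
  [0, 2, 0, 3, 0, 1, 4, 0, 2, 2, 0, 3, 3, 3, 4, 2, 5, 1, 5, 0, 4, 1, 4, 0, 8, 6, 5, 3, 8],
  [2, 2, 0, 3, 3, 2, 0, 3, 2, 4, 3, 2, 2, 0, 3, 3, 0, 2, 2, 0, 3, 3, 2, 0, 3, 4, 2, 8, 0, 5, 3],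
  [0, 3, 4, 2, 3, 4, 2, 2, 2, 0, 3, 3, 2, 0, 3, 0, 2, 2, 0, 3, 3, 2, 6, 4, 2, 0, 5, 5],
  [2, 0, 3, 2, 2, 0, 3, 3, 2, 0, 3, 1, 4, 0, 2, 0, 3, 3, 4, 2, 3, 6, 5, 3, 8],
  [0, 3, 4, 2, 1, 4, 0, 2, 0, 3, 3, 4, 2, 0, 2, 2, 0, 3, 3, 8, 6, 5, 3, 8],
  [2, 2, 0, 3, 3, 2, 0, 3, 3, 4, 2, 3, 4, 2, 0, 5, 1, 5, 0, 4, 1, 4, 0, 3],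
  [0, 1, 4, 0, 0, 0, 2, 0, 3, 3, 4, 2, 2, 0, 3, 0, 3, 0],
  [2, 0, 3, 2, 4, 3, 0, 2, 0, 3, 2, 2, 0, 3, 3, 2, 0, 3, 4, 2, 0, 3, 2, 2, 0, 3, 3, 6, 8, 1, 4, 4, 7],
  [1, 4, 0, 0, 2, 0, 3, 5, 1, 5, 0, 4, 1, 4, 0, 6, 5, 1, 4, 1, 5],
  [1, 4, 0, 2, 4, 3, 5, 1, 5, 0, 4, 1, 4, 0, 2, 2, 0, 3, 3, 0, 3, 4, 2, 2, 2, 0, 3, 3, 6, 4, 8, 1, 7],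
  [0, 0, 2, 0, 3, 4, 2, 2, 0, 3, 3, 4, 6, 4, 0, 2, 8],
  [2, 4, 3, 0, 0, 0, 0, 2, 0, 3, 0, 1, 4, 0, 2, 0, 3, 2, 6, 5, 3, 5, 2, 2],
  [0, 1, 4, 0, 3, 4, 2, 2, 0, 3, 0, 3, 4, 2, 2, 0, 3, 6, 4, 1, 5, 0, 5, 5],
  [1, 4, 0, 2, 0, 3, 0, 1, 4, 0, 4, 2, 2, 0, 3, 3, 5, 1, 5, 0, 4, 1, 4, 0, 6, 8, 2, 4, 0]]

def treeList : List ℕ := [72, 34, 29, 0]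

def relTab : List (List ℕ) := [
  [0, 0, 3, 3],
  [0, 3, 8, 5, 7, 3, 4, 7, 9, 4, 7, 5, 3, 7, 2, 5, 2, 4, 2, 5, 0, 3, 7, 9, 2, 7, 5, 2, 7, 9, 3, 7, 2, 6, 5, 5, 7, 5, 3, 5, 5, 2, 2, 1, 7, 9, 3, 7, 3, 4, 7, 9],
  [0, 2, 2, 5, 5, 2, 4, 4, 0, 5, 5, 2, 4, 4, 2, 2, 1, 5, 5, 2, 4, 4],
  [0, 3, 7, 9, 2, 7, 5, 2, 7, 9, 3, 7, 2, 6, 5, 5, 7, 5, 3, 5, 5, 0, 7, 9, 3, 7, 3, 4, 7, 9, 2, 2, 1, 3, 8, 5, 7, 3, 4, 7, 9, 4, 7, 5, 3, 7, 2, 5, 2, 4, 2, 5],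
  [0, 7, 9, 3, 7, 3, 4, 7, 9, 0, 3, 8, 5, 7, 3, 4, 7, 9, 4, 7, 5, 3, 7, 2, 5, 2, 4, 2, 5, 0, 3, 7, 9, 2, 7, 5, 2, 7, 9, 3, 7, 2, 6, 5, 5, 7, 5, 3, 5, 5],
  [0, 3, 8, 5, 7, 3, 4, 7, 9, 4, 7, 5, 3, 7, 2, 5, 2, 4, 2, 5, 0, 3, 7, 9, 2, 7, 5, 2, 7, 9, 3, 7, 2, 6, 5, 5, 7, 5, 3, 5, 5, 0, 7, 9, 3, 7, 3, 4, 7, 9],
  [0, 5, 5, 2, 4, 4, 0, 2, 2, 5, 5, 2, 4, 4, 0, 5, 5, 2, 4, 4],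
  [0, 7, 9, 3, 7, 3, 4, 7, 9, 0, 3, 8, 5, 7, 3, 4, 7, 9, 4, 7, 5, 3, 7, 2, 5, 2, 4, 2, 5, 2, 2, 1, 3, 7, 9, 2, 7, 5, 2, 7, 9, 3, 7, 2, 6, 5, 5, 7, 5, 3, 5, 5],
  [0, 5, 5, 2, 4, 4, 0, 2, 2, 5, 5, 2, 4, 4, 2, 2, 1, 5, 5, 2, 4, 4],
  [0, 3, 7, 9, 2, 7, 5, 2, 7, 9, 3, 7, 2, 6, 5, 5, 7, 5, 3, 5, 5, 0, 7, 9, 3, 7, 3, 4, 7, 9, 0, 3, 8, 5, 7, 3, 4, 7, 9, 4, 7, 5, 3, 7, 2, 5, 2, 4, 2, 5],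
  [0, 1],
  [1, 0],
  [2, 2, 1, 2, 4, 3, 4, 4, 3, 4, 4, 7, 2, 6, 4, 6, 5, 8, 6, 5, 5, 8, 6, 4, 6, 2, 2, 1, 3, 3, 9, 0, 3, 3, 3, 7, 9, 4, 3, 5, 7, 9, 4, 3, 5, 7, 5, 2, 5, 5, 2, 5, 0, 8],
  [2, 2, 1, 4, 2, 5, 3, 5, 5, 3, 5, 6, 4, 4, 6, 4, 8, 6, 5, 5, 8, 6, 4, 6, 2, 2, 1, 2, 5, 5, 3, 6, 4, 7, 4, 3, 7, 7, 8, 6, 2, 6, 3, 6, 5, 9, 0, 3, 3, 7, 5, 7, 9, 4, 4, 7, 9, 5, 7, 5, 5, 7, 4, 2, 4, 4, 2, 4, 3, 5, 0, 3, 3, 9, 2, 6, 4, 6, 3, 7, 9, 2, 5, 3, 6, 3, 5, 5, 3, 4, 3],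
  [2, 2, 1, 3, 3, 7, 5, 7, 9, 4, 4, 7, 9, 5, 7, 5, 5, 7, 4, 2, 4, 4, 2, 4, 3, 5, 0, 3, 3, 9, 2, 6, 4, 6, 3, 7, 9, 2, 5, 3, 6, 3, 5, 5, 3, 4, 3, 0, 4, 2, 5, 3, 5, 5, 3, 5, 6, 4, 4, 6, 4, 8, 6, 5, 5, 8, 6, 4, 6, 0, 2, 5, 5, 3, 6, 4, 7, 4, 3, 7, 7, 8, 6, 2, 6, 3, 6, 5, 9],
  [0, 3, 3, 7, 3, 6, 4, 7, 9, 6, 3, 6, 2, 6, 5, 3, 5, 3, 4, 0, 4, 8, 0, 4, 4, 3, 5, 3, 4, 4, 7, 2, 6, 3, 7, 8, 7, 4, 4, 3, 6, 4, 2, 2, 1, 3, 3, 9, 5],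
  [2, 2, 1, 4, 8, 2, 2, 1, 4, 4, 3, 5, 3, 4, 4, 7, 2, 6, 3, 7, 8, 7, 4, 4, 3, 6, 4, 0, 3, 3, 9, 5, 0, 3, 3, 7, 3, 6, 4, 7, 9, 6, 3, 6, 2, 6, 5, 3, 5, 3, 4],
  [2, 2, 1, 3, 3, 9, 5, 2, 2, 1, 3, 3, 7, 3, 6, 4, 7, 9, 6, 3, 6, 2, 6, 5, 3, 5, 3, 4, 0, 4, 8, 0, 4, 4, 3, 5, 3, 4, 4, 7, 2, 6, 3, 7, 8, 7, 4, 4, 3, 6, 4],
  [0, 3, 3, 7, 5, 7, 9, 4, 4, 7, 9, 5, 7, 5, 5, 7, 4, 2, 4, 4, 2, 4, 3, 5, 0, 3, 3, 9, 2, 6, 4, 6, 3, 7, 9, 2, 5, 3, 6, 3, 5, 5, 3, 4, 3, 0, 4, 2, 5, 3, 5, 5, 3, 5, 6, 4, 4, 6, 4, 8, 6, 5, 5, 8, 6, 4, 6, 2, 2, 1, 2, 5, 5, 3, 6, 4, 7, 4, 3, 7, 7, 8, 6, 2, 6, 3, 6, 5, 9],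
  [0, 4, 4, 3, 5, 3, 4, 4, 7, 2, 6, 3, 7, 8, 7, 4, 4, 3, 6, 4, 0, 3, 3, 9, 5, 0, 3, 3, 7, 3, 6, 4, 7, 9, 6, 3, 6, 2, 6, 5, 3, 5, 3, 4, 2, 2, 1, 4, 8],
  [0, 2, 4, 3, 4, 4, 3, 4, 4, 7, 2, 6, 4, 6, 5, 8, 6, 5, 5, 8, 6, 4, 6, 0, 3, 3, 9, 0, 3, 3, 3, 7, 9, 4, 3, 5, 7, 9, 4, 3, 5, 7, 5, 2, 5, 5, 2, 5, 2, 2, 1, 8],
  [0, 2, 4, 3, 4, 4, 3, 4, 4, 7, 2, 6, 4, 6, 5, 8, 6, 5, 5, 8, 6, 4, 6, 0, 3, 3, 9, 2, 2, 1, 3, 3, 3, 7, 9, 4, 3, 5, 7, 9, 4, 3, 5, 7, 5, 2, 5, 5, 2, 5, 2, 2, 1, 8],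
  [0, 3, 3, 9, 5, 0, 3, 3, 7, 3, 6, 4, 7, 9, 6, 3, 6, 2, 6, 5, 3, 5, 3, 4, 0, 4, 8, 2, 2, 1, 4, 4, 3, 5, 3, 4, 4, 7, 2, 6, 3, 7, 8, 7, 4, 4, 3, 6, 4],
  [0, 3, 3, 9, 0, 3, 3, 3, 7, 9, 4, 3, 5, 7, 9, 4, 3, 5, 7, 5, 2, 5, 5, 2, 5, 0, 8, 2, 2, 1, 2, 4, 3, 4, 4, 3, 4, 4, 7, 2, 6, 4, 6, 5, 8, 6, 5, 5, 8, 6, 4, 6],
  [0, 3, 3, 3, 7, 9, 4, 3, 5, 7, 9, 4, 3, 5, 7, 5, 2, 5, 5, 2, 5, 0, 8, 0, 2, 4, 3, 4, 4, 3, 4, 4, 7, 2, 6, 4, 6, 5, 8, 6, 5, 5, 8, 6, 4, 6, 2, 2, 1, 3, 3, 9],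
  [0, 3, 3, 7, 5, 7, 9, 4, 4, 7, 9, 5, 7, 5, 5, 7, 4, 2, 4, 4, 2, 4, 3, 5, 0, 3, 3, 9, 2, 6, 4, 6, 3, 7, 9, 2, 5, 3, 6, 3, 5, 5, 3, 4, 3, 2, 2, 1, 4, 2, 5, 3, 5, 5, 3, 5, 6, 4, 4, 6, 4, 8, 6, 5, 5, 8, 6, 4, 6, 2, 2, 1, 2, 5, 5, 3, 6, 4, 7, 4, 3, 7, 7, 8, 6, 2, 6, 3, 6, 5, 9],
  [0, 4, 2, 5, 3, 5, 5, 3, 5, 6, 4, 4, 6, 4, 8, 6, 5, 5, 8, 6, 4, 6, 0, 2, 5, 5, 3, 6, 4, 7, 4, 3, 7, 7, 8, 6, 2, 6, 3, 6, 5, 9, 0, 3, 3, 7, 5, 7, 9, 4, 4, 7, 9, 5, 7, 5, 5, 7, 4, 2, 4, 4, 2, 4, 3, 5, 2, 2, 1, 3, 3, 9, 2, 6, 4, 6, 3, 7, 9, 2, 5, 3, 6, 3, 5, 5, 3, 4, 3],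
  [0, 3, 3, 7, 3, 6, 4, 7, 9, 6, 3, 6, 2, 6, 5, 3, 5, 3, 4, 0, 4, 8, 2, 2, 1, 4, 4, 3, 5, 3, 4, 4, 7, 2, 6, 3, 7, 8, 7, 4, 4, 3, 6, 4, 2, 2, 1, 3, 3, 9, 5],
  [0, 4, 2, 5, 3, 5, 5, 3, 5, 6, 4, 4, 6, 4, 8, 6, 5, 5, 8, 6, 4, 6, 0, 2, 5, 5, 3, 6, 4, 7, 4, 3, 7, 7, 8, 6, 2, 6, 3, 6, 5, 9, 2, 2, 1, 3, 3, 7, 5, 7, 9, 4, 4, 7, 9, 5, 7, 5, 5, 7, 4, 2, 4, 4, 2, 4, 3, 5, 2, 2, 1, 3, 3, 9, 2, 6, 4, 6, 3, 7, 9, 2, 5, 3, 6, 3, 5, 5, 3, 4, 3],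
  [0, 3, 3, 9, 2, 6, 4, 6, 3, 7, 9, 2, 5, 3, 6, 3, 5, 5, 3, 4, 3, 0, 4, 2, 5, 3, 5, 5, 3, 5, 6, 4, 4, 6, 4, 8, 6, 5, 5, 8, 6, 4, 6, 0, 2, 5, 5, 3, 6, 4, 7, 4, 3, 7, 7, 8, 6, 2, 6, 3, 6, 5, 9, 2, 2, 1, 3, 3, 7, 5, 7, 9, 4, 4, 7, 9, 5, 7, 5, 5, 7, 4, 2, 4, 4, 2, 4, 3, 5],
  [0, 2, 5, 5, 3, 6, 4, 7, 4, 3, 7, 7, 8, 6, 2, 6, 3, 6, 5, 9, 0, 3, 3, 7, 5, 7, 9, 4, 4, 7, 9, 5, 7, 5, 5, 7, 4, 2, 4, 4, 2, 4, 3, 5, 0, 3, 3, 9, 2, 6, 4, 6, 3, 7, 9, 2, 5, 3, 6, 3, 5, 5, 3, 4, 3, 2, 2, 1, 4, 2, 5, 3, 5, 5, 3, 5, 6, 4, 4, 6, 4, 8, 6, 5, 5, 8, 6, 4, 6],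
  [0, 5, 5, 2, 4, 4, 0, 5, 5, 2, 4, 4, 2, 2, 1, 2, 2, 5, 5, 2, 4, 4],
  [0, 4, 4, 3, 5, 3, 4, 4, 7, 2, 6, 3, 7, 8, 7, 4, 4, 3, 6, 4, 0, 3, 3, 9, 5, 2, 2, 1, 3, 3, 7, 3, 6, 4, 7, 9, 6, 3, 6, 2, 6, 5, 3, 5, 3, 4, 2, 2, 1, 4, 8],
  [2, 2, 1, 3, 3, 9, 2, 6, 4, 6, 3, 7, 9, 2, 5, 3, 6, 3, 5, 5, 3, 4, 3, 2, 2, 1, 4, 2, 5, 3, 5, 5, 3, 5, 6, 4, 4, 6, 4, 8, 6, 5, 5, 8, 6, 4, 6, 0, 2, 5, 5, 3, 6, 4, 7, 4, 3, 7, 7, 8, 6, 2, 6, 3, 6, 5, 9, 0, 3, 3, 7, 5, 7, 9, 4, 4, 7, 9, 5, 7, 5, 5, 7, 4, 2, 4, 4, 2, 4, 3, 5],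
  [2, 2, 1, 2, 5, 5, 3, 6, 4, 7, 4, 3, 7, 7, 8, 6, 2, 6, 3, 6, 5, 9, 2, 2, 1, 3, 3, 7, 5, 7, 9, 4, 4, 7, 9, 5, 7, 5, 5, 7, 4, 2, 4, 4, 2, 4, 3, 5, 0, 3, 3, 9, 2, 6, 4, 6, 3, 7, 9, 2, 5, 3, 6, 3, 5, 5, 3, 4, 3, 0, 4, 2, 5, 3, 5, 5, 3, 5, 6, 4, 4, 6, 4, 8, 6, 5, 5, 8, 6, 4, 6],
  [0, 8, 0, 2, 4, 3, 4, 4, 3, 4, 4, 7, 2, 6, 4, 6, 5, 8, 6, 5, 5, 8, 6, 4, 6, 2, 2, 1, 3, 3, 9, 2, 2, 1, 3, 3, 3, 7, 9, 4, 3, 5, 7, 9, 4, 3, 5, 7, 5, 2, 5, 5, 2, 5],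
  [0, 2, 5, 5, 3, 6, 4, 7, 4, 3, 7, 7, 8, 6, 2, 6, 3, 6, 5, 9, 0, 3, 3, 7, 5, 7, 9, 4, 4, 7, 9, 5, 7, 5, 5, 7, 4, 2, 4, 4, 2, 4, 3, 5, 2, 2, 1, 3, 3, 9, 2, 6, 4, 6, 3, 7, 9, 2, 5, 3, 6, 3, 5, 5, 3, 4, 3, 2, 2, 1, 4, 2, 5, 3, 5, 5, 3, 5, 6, 4, 4, 6, 4, 8, 6, 5, 5, 8, 6, 4, 6]]

end H97.Ly.Data
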