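import Cfsg.Agent.H23.DC.Cert

/-! Deductions of the Lyons certificate (generated data). -/

set_option autoImplicit false
set_option maxRecDepth 100000
set_option linter.all false

namespace H97.Ly.Data

open H23.DC

def deds0 : List Ded := [
  .edge 1 0 [] [.fwd 0 [] []] [.lett 1, .lett 1] [] [] [],
  .edge 2 0 [] [.fwd 0 [] [], .lett 1, .lett 6, .lett 3, .lett 5, .lett 1, .lett 2, .lett 5, .lett 7, .lett 2, .lett 5, .lett 3, .lett 1, .lett 5, .lett 0, .lett 3, .lett 0, .lett 2, .lett 0, .lett 3] [.lett 1, .lett 5, .lett 7, .lett 0, .lett 5, .lett 3, .lett 0, .lett 5, .lett 7, .lett 1, .lett 5, .lett 0, .lett 4, .lett 3, .lett 3, .lett 5, .lett 3, .lett 1, .lett 3, .lett 3, .lett 0, .lett 0, .bwd 0 [10, 13] [], .lett 5, .lett 7, .lett 1, .lett 5, .lett 1, .lett 2, .lett 5, .lett 7] [13, 11, 13, 13, 12, 15, 10] [] [0, 2, 2, 0, 3,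 3, 2, 0, 3, 3, 4, 2, 2, 2, 0, 3, 3, 2, 4, 3, 2, 2, 0, 3, 3, 0, 2, 2, 0, 3, 3, 8, 1, 4, 4, 3],
  .edge 3 1 [2, 0, 3, 3, 4, 2, 2, 2, 0, 3, 3, 2, 4, 3, 0, 0, 2, 2, 0, 3, 3, 2, 0, 3, 8] [.fwd 2 [] []] [.lett 1, .lett 1] [14, 11, 14, 16, 10, 15, 12, 11] [] [],
  .edge 4 0 [] [.fwd 0 [] [], .lett 0, .lett 0, .lett 3, .lett 3, .lett 0, .lett 2, .lett 2] [.lett 3, .lett 3, .lett 0, .lett 2, .lett 2, .lett 0, .lett 0, .bwd 0 [10, 11, 12] [], .lett 3, .lett 3, .lett 0, .lett 2, .lett 2] [10, 10, 10, 10, 10, 11, 12] [] [2],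
  .edge 5 1 [3] [.fwd 4 [] []] [.lett 1, .lett 1] [10, 10, 12, 11, 10] [] [],
  .edge 6 0 [] [.fwd 0 [] [], .lett 1, .lett 5, .lett 7, .lett 0, .lett 5, .lett 3, .lett 0, .lett 5, .lett 7, .lett 1, .lett 5, .lett 0, .lett 4, .lett 3, .lett 3, .lett 5, .lett 3, .lett 1, .lett 3, .lett 3] [.lett 5, .lett 7, .lett 1, .lett 5, .lett 1, .lett 2, .lett 5, .lett 7, .lett 0, .lett 0, .bwd 0 [10, 10, 16, 12, 16, 12, 11, 10] [], .lett 1, .lett 6, .lett 3, .lett 5, .lett 1, .lett 2, .lett 5, .lett 7, .lett 2, .lett 5, .lett 3, .lett 1, .lett 5, .lett 0, .lett 3, .lett 0, .lett 2, .lett 0, .lett 3] [11, 10, 12, 13, 15, 14, 10, 13] [] [0, 2, 4, 3, 2, 0, 3, 4, 1, 4, 0, 2, 2, 0, 3, 3, 2, 4, 3, 8, 4],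
  .edge 7 1 [0, 0, 2, 0, 3, 2, 4, 3, 0, 0, 0, 0, 2, 8] [.fwd 6 [] []] [.lett 1, .lett 1] [10, 11, 15, 10, 10, 11, 14, 10, 11] [] [],
  .edge 8 1 [] [.fwd 1 [] [], .lett 5, .lett 7, .lett 1, .lett 5, .lett 1, .lett 2, .lett 5, .lett 7, .fwd 0 [16, 17, 11, 10, 16, 11] [0, 2, 0, 3, 0, 3, 4, 2, 0, 2, 4, 3, 0, 2, 2, 0, 3, 3, 2, 0, 3, 8, 0, 4, 2, 5], .lett 1, .lett 6, .lett 3, .lett 5, .lett 1, .lett 2, .lett 5, .lett 7, .lett 2, .lett 5, .lett 3, .lett 1, .lett 5, .lett 0, .lett 3, .lett 0, .lett 2, .lett 0, .lett 3] [.lett 1, .lett 5, .lett 7, .lett 0, .lett 5, .lett 3, .lett 0, .lett 5, .lett 7, .lett 1, .lett 5, .lett 0, .lett 4, .lett 3, .lett 3, .lett 5, .lett 3, .lett 1, .lett 3, .lett 3] [11, 10, 15, 12, 14, 16, 13] [] [],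
  .edge 9 1 [2, 2, 0, 3, 3, 2, 0, 3, 4, 1, 4, 0, 4, 3, 4, 2, 0, 3, 8] [.fwd 8 [] []] [.lett 1, .lett 1] [10, 12, 15, 15, 14] [] [],
  .edge 10 1 [] [.fwd 1 [] [], .lett 1, .lett 6, .lett 3, .lett 5, .lett 1, .lett 2, .lett 5, .lett 7, .lett 2, .lett 5, .lett 3, .lett 1, .lett 5, .lett 0, .lett 3, .lett 0, .lett 2, .lett 0, .lett 3, .fwd 0 [10, 11, 10, 12, 16, 10, 12] [0, 0, 0, 2, 0, 3, 2, 2, 0, 3, 3, 2, 0, 3, 0, 1, 4, 0, 2, 0, 3, 4, 8, 1, 5, 3, 0], .lett 1, .lett 5, .lett 7, .lett 0, .lett 5, .lett 3, .lett 0, .lett 5, .lett 7, .lett 1, .lett 5, .lett 0, .lett 4, .lett 3, .lett 3, .lett 5, .lett 3, .lett 1, .lett 3, .lett 3] [.lett 5, .lett 7, .lett 1, .lett 5, .lett 1, .lett 2, .lett 5, .lett 7] [10, 10, 10, 15, 16] [] [],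
  .edge 11 1 [4, 2, 2, 0, 3, 3, 0, 2, 2, 0, 3, 3, 8] [.fwd 10 [] []] [.lett 1, .lett 1] [10, 10, 10, 11, 12, 15, 15, 11, 15, 10] [] [],
  .edge 12 1 [3] [.fwd 4 [] [], .lett 3, .lett 3, .lett 0, .lett 2, .lett 2, .fwd 4 [10, 10, 10, 10, 11, 12] [], .lett 0, .lett 0, .lett 3, .lett 3, .lett 0, .lett 2, .lett 2] [.lett 3, .lett 3, .lett 0, .lett 2, .lett 2] [10, 10, 10, 11, 12, 11, 10] [] []]

def deds1 : List Ded := [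
  .edge 13 1 [2, 2, 0, 3, 3, 0, 2, 2, 0, 3, 3, 2] [.fwd 12 [] []] [.lett 1, .lett 1] [11, 10, 12, 10] [] [],
  .edge 14 1 [2, 2, 0, 3, 3, 0, 2, 2, 0, 3, 3, 1, 4, 0, 2, 4, 3, 2, 4, 3, 0, 3, 8] [.fwd 3 [] [], .lett 1, .lett 5, .lett 7, .lett 0, .lett 5, .lett 3, .lett 0, .lett 5, .lett 7, .lett 1, .lett 5, .lett 0, .lett 4, .lett 3, .lett 3, .lett 5, .lett 3, .lett 1, .lett 3, .lett 3] [.lett 5, .lett 7, .lett 1, .lett 5, .lett 1, .lett 2, .lett 5, .lett 7, .lett 0, .lett 0, .bwd 12 [11, 12, 10, 15, 15, 17, 12] [], .lett 1, .lett 6, .lett 3, .lett 5, .lett 1, .lett 2, .lett 5, .lett 7, .lett 2, .lett 5, .lett 3, .lett 1, .lett 5, .lett 0, .lett 3, .lett 0, .lett 2, .lett 0, .lett 3] [11, 10, 13, 13, 12, 15, 10, 17] [] [],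
  .edge 15 1 [0, 1, 4, 0, 1, 4, 0, 3, 4, 2, 2, 2, 0, 3, 3, 0, 2, 2, 0, 3, 3, 8] [.fwd 14 [] []] [.lett 1, .lett 1] [12, 11, 16, 11, 17, 10, 15] [] [],
  .edge 16 0 [] [.fwd 0 [] [], .lett 5, .lett 7, .lett 1, .lett 5, .lett 1, .lett 2, .lett 5, .lett 7] [.lett 1, .lett 6, .lett 3, .lett 5, .lett 1, .lett 2, .lett 5, .lett 7, .lett 2, .lett 5, .lett 3, .lett 1, .lett 5, .lett 0, .lett 3, .lett 0, .lett 2, .lett 0, .lett 3, .lett 0, .lett 0, .bwd 0 [10, 15, 12, 11, 10, 13, 13] [], .lett 1, .lett 5, .lett 7, .lett 0, .lett 5, .lett 3, .lett 0, .lett 5, .lett 7, .lett 1, .lett 5, .lett 0, .lett 4, .lett 3, .lett 3, .lett 5, .lett 3, .lett 1, .lett 3, .lett 3] [12, 11, 13, 14, 10, 16, 11, 12] [] [2, 2, 0, 3, 3, 0, 3, 4, 2, 0, 2, 2, 0, 3, 3, 0, 2, 0, 3, 0, 8, 1, 5],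
  .edge 17 1 [2, 2, 0, 3, 3, 0, 2, 2, 0, 3, 3, 2, 0, 3, 2, 8] [.fwd 16 [] []] [.lett 1, .lett 1] [10, 10, 10, 10, 16, 10, 10, 11, 14] [] [],
  .edge 18 1 [2, 0, 3, 3, 4, 2, 2, 2, 0, 3, 3, 2, 4, 3, 0, 0, 2, 2, 0, 3, 3, 2, 0, 3, 8] [.fwd 2 [] [], .lett 1, .lett 5, .lett 7, .lett 0, .lett 5, .lett 3, .lett 0, .lett 5, .lett 7, .lett 1, .lett 5, .lett 0, .lett 4, .lett 3, .lett 3, .lett 5, .lett 3, .lett 1, .lett 3, .lett 3] [.lett 5, .lett 7, .lett 1, .lett 5, .lett 1, .lett 2, .lett 5, .lett 7, .lett 0, .lett 0, .bwd 13 [10, 12, 11, 15, 12, 16, 12, 17] [], .lett 1, .lett 6, .lett 3, .lett 5, .lett 1, .lett 2, .lett 5, .lett 7, .lett 2, .lett 5, .lett 3, .lett 1, .lett 5, .lett 0, .lett 3, .lett 0, .lett 2, .lett 0, .lett 3] [10, 10, 10, 11, 10, 12, 15, 14, 15, 11] [] [],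
  .edge 19 1 [1, 4, 0, 1, 4, 0, 1, 4, 0, 1, 4, 0, 8] [.fwd 18 [] []] [.lett 1, .lett 1] [10, 12, 16, 11, 10, 14, 12] [] [],
  .edge 20 1 [4, 2, 2, 0, 3, 3, 0, 2, 2, 0, 3, 3, 8] [.fwd 10 [] [], .lett 1, .lett 5, .lett 7, .lett 0, .lett 5, .lett 3, .lett 0, .lett 5, .lett 7, .lett 1, .lett 5, .lett 0, .lett 4, .lett 3, .lett 3, .lett 5, .lett 3, .lett 1, .lett 3, .lett 3] [.lett 5, .lett 7, .lett 1, .lett 5, .lett 1, .lett 2, .lett 5, .lett 7, .lett 0, .lett 0, .bwd 13 [10, 11, 13, 15, 16, 15, 16] [], .lett 1, .lett 6, .lett 3, .lett 5, .lett 1, .lett 2, .lett 5, .lett 7, .lett 2, .lett 5, .lett 3, .lett 1, .lett 5, .lett 0, .lett 3, .lett 0, .lett 2, .lett 0, .lett 3] [11, 12, 13, 13, 14, 10, 11, 12] [] [],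
  .edge 21 1 [0, 0, 1, 4, 0, 0, 2, 4, 3, 0, 0, 0, 2, 0, 3, 2, 8] [.fwd 20 [] []] [.lett 1, .lett 1] [10, 10, 11, 14, 12, 10, 11] [] [],
  .edge 22 1 [0, 1, 4, 0, 8] [.fwd 9 [] [], .lett 3, .lett 3, .lett 0, .lett 2, .lett 2] [.lett 0, .lett 0, .lett 3, .lett 3, .lett 0, .lett 2, .lett 2, .lett 0, .lett 0, .bwd 10 [11, 10, 16, 10, 12, 11, 10] [], .lett 3, .lett 3, .lett 0, .lett 2, .lett 2] [10, 10, 10, 10, 15, 11, 15, 10] [] [],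
  .edge 23 1 [0, 3, 4, 2, 0, 2, 4, 3, 2, 0, 3, 2, 2, 0, 3, 3, 4, 8, 5] [.fwd 22 [] []] [.lett 1, .lett 1] [10, 12, 10, 11, 15, 10, 13, 13] [] [],
  .edge 24 1 [2, 2, 0, 3, 3, 2, 0, 3, 0, 3, 0] [.fwd 13 [] [], .lett 5, .lett 7, .lett 1, .lett 5, .lett 1, .lett 2, .lett 5, .lett 7] [.lett 1, .lett 6, .lett 3, .lett 5, .lett 1, .lett 2, .lett 5, .lett 7, .lett 2, .lett 5, .lett 3, .lett 1, .lett 5, .lett 0, .lett 3, .lett 0, .lett 2, .lett 0, .lett 3, .lett 0, .lett 0, .bwd 22 [16, 15, 15, 11, 13] [], .lett 1, .lett 5, .lett 7, .lett 0, .lett 5, .lett 3, .lett 0, .lett 5, .lett 7, .lett 1, .lett 5, .lett 0, .lett 4, .lett 3, .lett 3, .lett 5, .lett 3, .lett 1, .lett 3, .lett 3] [11, 16, 16, 13] [] []]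

def deds2 : List Ded := [
  .edge 25 1 [0, 2, 2, 0, 3, 3, 0, 2, 4, 3, 2, 2, 0, 3, 3, 4, 4, 2, 4, 3, 8] [.fwd 24 [] []] [.lett 1, .lett 1] [10, 10, 10, 16, 12, 11, 10, 13, 12, 14] [] [],
  .edge 26 1 [0, 2, 0, 3, 1, 4, 0, 2, 2, 0, 3, 3, 4, 2, 4, 3, 3, 4, 2, 8, 5] [.fwd 17 [] [], .lett 1, .lett 5, .lett 7, .lett 0, .lett 5, .lett 3, .lett 0, .lett 5, .lett 7, .lett 1, .lett 5, .lett 0, .lett 4, .lett 3, .lett 3, .lett 5, .lett 3, .lett 1, .lett 3, .lett 3] [.lett 5, .lett 7, .lett 1, .lett 5, .lett 1, .lett 2, .lett 5, .lett 7, .lett 0, .lett 0, .bwd 12 [10, 10, 10, 11, 12, 15, 16, 10, 13, 11] [], .lett 1, .lett 6, .lett 3, .lett 5, .lett 1, .lett 2, .lett 5, .lett 7, .lett 2, .lett 5, .lett 3, .lett 1, .lett 5, .lett 0, .lett 3, .lett 0, .lett 2, .lett 0, .lett 3] [11, 15, 17, 10, 13, 12, 13, 11] [] [],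
  .edge 27 1 [2, 2, 0, 3, 3, 0, 4, 3, 4, 2, 2, 2, 0, 3, 3, 2, 0, 3, 2, 4, 3, 2, 4, 3, 8, 4, 0] [.fwd 26 [] []] [.lett 1, .lett 1] [15, 10, 10, 12, 16, 10, 10] [] [],
  .stab 1 26 [0, 2, 2, 0, 3, 3, 0, 2, 4, 3, 2, 2, 0, 3, 3, 4, 4, 2, 4, 3, 8] [.fwd 24 [] [], .lett 1, .lett 5, .lett 7, .lett 0, .lett 5, .lett 3, .lett 0, .lett 5, .lett 7, .lett 1, .lett 5, .lett 0, .lett 4, .lett 3, .lett 3, .lett 5, .lett 3, .lett 1, .lett 3, .lett 3, .fwd 6 [11, 10, 13, 17, 11, 12, 13, 11] [], .lett 5, .lett 7, .lett 1, .lett 5, .lett 1, .lett 2, .lett 5, .lett 7, .fwd 12 [15, 16, 10, 12, 11, 17, 10] [], .lett 1, .lett 6, .lett 3, .lett 5, .lett 1, .lett 2, .lett 5, .lett 7, .lett 2, .lett 5, .lett 3, .lett 1, .lett 5, .lett 0, .lett 3, .lett 0, .lett 2, .lett 0, .lett 3],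
  .edge 28 1 [2, 0, 3, 3, 4, 2, 2, 2, 0, 3, 3, 2, 4, 3, 0, 0, 2, 2, 0, 3, 3, 2, 0, 3, 8] [] [.bwd 2 [] []] [10, 12, 11, 17, 10, 12, 13, 11] [26, 26] [],
  .stab 1 27 [0, 0, 0, 2, 4, 3, 3, 4, 2, 5, 1, 5, 0, 4, 1, 4, 0, 0, 8, 0, 5, 5, 3] [.bwd 3 [] [], .fwd 28 [11, 10, 14, 12, 16, 11, 12, 15, 10] [26, 26, 26, 26]],
  .edge 30 1 [6, 8] [.fwd 29 [] []] [.lett 1, .lett 1] [] [] [],
  .stab 2 28 [4, 3, 4, 2, 2, 0, 3, 2, 4, 3, 2, 4, 3, 3, 4, 2] [.lett 0, .lett 0, .bwd 29 [10, 10, 11, 10, 12, 16, 12, 10, 14] [], .lett 0, .lett 2, .lett 1, .lett 2, .lett 2, .lett 1, .lett 2, .lett 2, .lett 5, .lett 0, .lett 4, .lett 2, .lett 4, .lett 3, .lett 6, .lett 4, .lett 3, .lett 3, .lett 6, .lett 4, .lett 2, .lett 4, .lett 0, .lett 0, .bwd 0 [10, 10, 10, 10, 10, 10] [26, 27, 27, 26, 26, 26, 27, 27, 27, 26, 26, 26, 27, 26, 27], .lett 1, .lett 1, .lett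 7, .fwd 0 [] [6], .lett 1, .lett 1, .lett 1, .lett 5, .lett 7, .lett 2, .lett 1, .lett 3, .lett 5, .lett 7, .lett 2, .lett 1, .lett 3, .lett 5, .lett 3, .lett 0, .lett 3, .lett 3, .lett 0, .lett 3, .fwd 29 [15, 10, 12, 13, 12, 17, 11] [27, 27, 27, 27, 26, 26, 26, 26, 26, 26, 26, 27, 27, 26, 26, 26, 26], .lett 6],
  .stab 2 29 [0, 2, 0, 3, 3, 4, 2, 0, 2, 2, 0, 3, 3, 1, 4, 0, 0] [.lett 0, .lett 0, .bwd 29 [10, 10, 10, 10, 10, 11, 14, 12] [], .lett 2, .lett 0, .lett 3, .lett 1, .lett 3, .lett 3, .lett 1, .lett 3, .lett 4, .lett 2, .lett 2, .lett 4, .lett 2, .lett 6, .lett 4, .lett 3, .lett 3, .lett 6, .lett 4, .lett 2, .lett 4, .lett 0, .lett 0, .bwd 0 [10, 10, 10, 10, 17, 10, 15, 14] [26, 26, 26, 27, 26, 26, 27, 27, 26, 27, 27, 26, 27, 27, 26, 27, 26, 27], .lett 0, .lett 3, .lett 3, .lett 1, .lett 4, .lett 2, .lett 5, .lett 2, .lett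 1, .lett 5, .lett 5, .lett 6, .lett 4, .lett 0, .lett 4, .lett 1, .lett 4, .lett 3, .lett 7, .fwd 0 [] [0, 2, 0, 3, 0, 3, 4, 2, 3, 4, 2, 0, 2, 0, 3, 2, 4, 3, 8, 0, 8, 7, 5, 1, 8], .lett 1, .lett 1, .lett 5, .lett 3, .lett 5, .lett 7, .lett 2, .lett 2, .lett 5, .lett 7, .lett 3, .lett 5, .lett 3, .lett 3, .lett 5, .lett 2, .lett 0, .lett 2, .lett 2, .lett 0, .lett 2, .lett 1, .lett 3, .fwd 29 [10, 10, 11, 12, 11, 13, 13, 16] [26, 26, 26, 26, 26, 26, 26, 27, 26, 27, 26, 26, 26, 26, 26, 26, 27, 27, 26, 27, 26], .lett 1, .lett 1, .lett 7, .lett 0, .lett 4, .lett 2, .lett 4, .lett 1, .lett 5, .lett 7, .lett 0, .lett 3, .lett 1, .lett 4, .lett 1, .lett 3, .lett 3, .lett 1, .lett 2, .lett 1],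
  .edge 31 1 [6, 8] [.fwd 29 [] [], .lett 3, .lett 3, .lett 0, .lett 2, .lett 2] [.lett 0, .lett 0, .lett 3, .lett 3, .lett 0, .lett 2, .lett 2, .lett 0, .lett 0, .bwd 29 [15, 16, 10, 10, 10, 11, 12, 10] [], .lett 3, .lett 3, .lett 0, .lett 2, .lett 2] [10, 10, 10, 11, 12] [] [26, 26, 26, 27, 27, 27, 26, 26, 27, 26, 26, 26, 26, 27, 26, 27, 26],
  .stab 2 30 [3, 4, 2, 1, 4, 0, 0, 3, 4, 2, 2, 4, 3, 2, 0, 3] [.lett 0, .lett 0, .bwd 29 [10, 13, 17, 11, 10, 15, 10] [], .lett 1, .lett 1, .lett 5, .lett 3, .lett 5, .lett 7, .lett 2, .lett 2, .lett 5, .lett 7, .lett 3, .lett 5, .lett 3, .lett 3, .lett 5, .lett 2, .lett 0, .lett 2, .lett 2, .lett 0, .lett 2, .lett 1, .lett 3, .fwd 1 [] [26, 26, 27, 27, 27, 26, 26, 27, 27, 27, 27, 27, 27, 27, 27, 27, 27], .lett 1, .lett 1, .lett 7, .lett 0, .lett 4, .lett 2, .lett 4, .lett 1, .lett 5, .lett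 7, .lett 0, .lett 3, .lett 1, .lett 4, .lett 1, .lett 3, .lett 3, .lett 1, .lett 2, .lett 1, .fwd 0 [10, 10, 15, 11, 12, 15, 11, 14, 10] [0, 0, 0, 4, 2, 2, 0, 3, 3, 1, 4, 0, 5, 1, 5, 0, 4, 1, 4, 0, 2, 2, 0, 3, 3, 6, 4, 3, 3, 1, 2], .lett 2, .lett 0, .lett 3, .lett 1, .lett 3, .lett 3, .lett 1, .lett 3, .lett 4, .lett 2, .lett 2, .lett 4, .lett 2, .lett 6, .lett 4, .lett 3, .lett 3, .lett 6, .lett 4, .lett 2, .lett 4, .fwd 29 [11, 16, 10, 14, 15, 12] [26, 27, 26, 27, 27, 27, 26, 26, 27, 26, 26, 26, 27, 26, 27, 27, 26], .lett 0, .lett 3, .lett 3, .lett 1, .lett 4, .lett 2, .lett 5, .lett 2, .lett 1, .lett 5, .lett 5, .lett 6, .lett 4, .lett 0, .lett 4, .lett 1, .lett 4, .lett 3, .lett 7],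
  .edge 32 1 [8] [.fwd 28 [] [], .lett 1, .lett 1, .lett 5, .lett 1, .lett 4, .lett 2, .lett 5, .lett 7, .lett 4, .lett 1, .lett 4, .lett 0, .lett 4, .lett 3, .lett 1, .lett 3, .lett 1, .lett 2, .fwd 29 [12, 13, 11, 12, 11, 13, 12, 15] [27, 26, 26, 27, 26, 27, 27, 27, 26, 26, 27, 26, 26, 27, 26], .lett 2, .lett 6] [.lett 2, .lett 2, .lett 1, .lett 3, .lett 1, .lett 2, .lett 2, .lett 5, .lett 0, .lett 4, .lett 1, .lett 5, .lett 6, .lett 5, .lett 2, .lett 2, .lett 1, .lett 4, .lett 2, .lett 0, .lett 0, .bwd 29 [11, 12, 10, 12, 13, 16, 16] [], .lett 1, .lett 1, .lett 7, .lett 3] [10, 10, 13, 16, 12, 10, 11, 12] [28, 28, 30, 30, 28, 30, 29] [27, 26, 27, 26, 27, 27, 26, 27, 27, 26]]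

def deds3 : List Ded := [
  .edge 33 2 [0, 1, 4, 0, 0, 5, 1, 5, 0, 4, 1, 4, 0, 0, 6] [.fwd 32 [] [], .lett 5, .lett 7, .lett 1, .lett 5, .lett 1, .lett 2, .lett 5, .lett 7, .fwd 32 [10, 14, 12, 10, 11, 13, 12, 14] [29, 30, 28, 30, 28, 30], .lett 1, .lett 6, .lett 3, .lett 5, .lett 1, .lett 2, .lett 5, .lett 7, .lett 2, .lett 5, .lett 3, .lett 1, .lett 5, .lett 0, .lett 3, .lett 0, .lett 2, .lett 0, .lett 3] [.lett 1, .lett 5, .lett 7, .lett 0, .lett 5, .lett 3, .lett 0, .lett 5, .lett 7, .lett 1, .lett 5, .lett 0, .lett 4, .lett 3, .lett 3, .lett 5, .lett 3, .lett 1, .lett 3, .lett 3] [10, 16, 15, 10, 16, 11] [29, 29, 29, 29] [],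
  .edge 35 1 [6, 4, 6, 8] [.fwd 34 [] []] [.lett 1, .lett 1] [] [] [],
  .stab 3 31 [2, 0, 3, 2, 4, 3, 0, 2, 2, 0, 3, 3, 3, 4, 2, 5, 1, 5, 0, 4, 1, 4, 0] [.lett 0, .lett 0, .bwd 34 [10, 10, 11, 12, 17, 10, 16] [], .lett 2, .lett 6, .lett 0, .lett 0, .bwd 0 [10, 10, 10, 15, 16, 10, 12, 15, 12, 11] [27, 27, 26, 26, 27, 27, 27, 27, 27, 26, 26, 27, 27], .lett 2, .lett 2, .lett 1, .lett 3, .lett 1, .lett 2, .lett 2, .lett 5, .lett 0, .lett 4, .lett 1, .lett 5, .lett 6, .lett 5, .lett 2, .lett 2, .lett 1, .lett 4, .lett 2, .fwd 0 [] [0, 0, 0, 2, 2, 0, 3, 3, 2, 0, 3, 3, 4, 2, 0, 2, 2, 0, 3, 3, 2, 0, 3, 3, 6, 8, 0, 7, 4, 2], .lett 1, .lett 1, .lett 7, .lett 3, .fwd 34 [11, 12, 10, 16, 16, 11, 17] [26, 27, 26, 27, 26, 27, 27, 26, 27, 26, 26, 27, 27, 27, 26, 27, 26, 27, 27], .lett 1, .lett 1, .lett 5, .lett 1, .lett 4, .lett 2, .lett 5, .lett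 7, .lett 4, .lett 1, .lett 4, .lett 0, .lett 4, .lett 3, .lett 1, .lett 3, .lett 1, .lett 2],
  .stab 3 32 [3, 4, 2, 0, 4, 2, 2, 0, 3, 3, 2, 0, 3, 0, 5, 1, 5, 0, 4, 1, 4, 0] [.lett 0, .lett 0, .bwd 34 [10, 12, 11, 15, 10, 17, 10, 10] [], .lett 1, .lett 1, .lett 7, .lett 3, .lett 0, .lett 0, .bwd 0 [12, 13, 15, 14, 10, 16, 12] [27, 27, 27, 27, 27, 27, 26, 26, 27, 26], .lett 1, .lett 1, .lett 5, .lett 1, .lett 4, .lett 2, .lett 5, .lett 7, .lett 4, .lett 1, .lett 4, .lett 0, .lett 4, .lett 3, .lett 1, .lett 3, .lett 1, .lett 2, .fwd 0 [] [0, 0, 2, 4, 3, 2, 0, 3, 2, 2, 0, 3, 3, 1, 4, 0, 0, 2, 0, 3, 1, 4, 0, 2, 2, 0, 3, 3, 3, 6, 5, 3, 4, 0, 5], .lett 2, .lett 6, .fwd 34 [10, 12, 11, 15, 10, 17, 10] [27, 26, 26, 26, 26, 26, 26, 26, 27, 27, 26, 26, 26, 27], .lett 2, .lett 2, .lett 1, .lett 3, .lett 1, .lett 2, .lett 2, .lett 5, .lett 0,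 .lett 4, .lett 1, .lett 5, .lett 6, .lett 5, .lett 2, .lett 2, .lett 1, .lett 4, .lett 2],
  .edge 36 1 [3] [.fwd 4 [] [], .lett 1, .lett 1, .lett 5, .lett 3, .lett 5, .lett 7, .lett 2, .lett 2, .lett 5, .lett 7, .lett 3, .lett 5, .lett 3, .lett 3, .lett 5, .lett 2, .lett 0, .lett 2, .lett 2, .lett 0, .lett 2, .lett 1, .lett 3, .fwd 29 [10, 11, 12, 15, 13, 11, 13, 11] [26, 26, 26, 26, 26, 26, 26, 27, 27, 27, 27, 27, 26, 26, 26, 26, 26, 26, 26], .lett 1, .lett 1, .lett 7, .lett 0, .lett 4, .lett 2, .lett 4, .lett 1, .lett 5, .lett 7, .lett 0, .lett 3, .lett 1, .lett 4, .lett 1, .lett 3, .lett 3, .lett 1, .lett 2, .lett 1] [.lett 2, .lett 0, .lett 3, .lett 1, .lett 3, .lett 3, .lett 1, .lett 3, .lett 4, .lett 2, .lett 2, .lett 4, .lett 2, .lett 6, .lett 4, .lett 3, .lett 3, .lett 6, .lett 4, .lett 2, .lett 4, .lett 0, .lett 0, .bwd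 34 [14, 12, 15, 11, 12, 11, 10] [], .lett 0, .lett 3, .lett 3, .lett 1, .lett 4, .lett 2, .lett 5, .lett 2, .lett 1, .lett 5, .lett 5, .lett 6, .lett 4, .lett 0, .lett 4, .lett 1, .lett 4, .lett 3, .lett 7] [10, 11, 10, 15, 10, 10, 12, 16, 11, 10] [28, 30, 29, 28, 28, 30] [27, 27, 27, 26, 27, 26, 27, 26, 27, 26, 27, 27, 27],
  .edge 37 2 [6, 8] [.fwd 36 [] []] [.lett 1, .lett 1] [11, 15, 15, 12, 13, 13, 13] [32, 32, 32, 32, 31, 32, 32, 31, 32, 31] [],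
  .edge 38 1 [3] [.fwd 4 [] [], .lett 2, .lett 2, .lett 1, .lett 3, .lett 1, .lett 2, .lett 2, .lett 5, .lett 0, .lett 4, .lett 1, .lett 5, .lett 6, .lett 5, .lett 2, .lett 2, .lett 1, .lett 4, .lett 2, .fwd 34 [11, 12, 10, 14, 17, 11, 13, 11] [26, 27, 27, 26, 26, 26, 26, 26, 27, 27, 27, 26, 27, 26, 26, 27, 27, 26], .lett 1, .lett 1, .lett 7, .lett 3] [.lett 1, .lett 1, .lett 5, .lett 1, .lett 4, .lett 2, .lett 5, .lett 7, .lett 4, .lett 1, .lett 4, .lett 0, .lett 4, .lett 3, .lett 1, .lett 3, .lett 1, .lett 2, .lett 0, .lett 0, .bwd 34 [10, 10, 11, 12, 10, 16, 11, 10, 12, 17] [], .lett 2, .lett 6] [10, 14, 10, 10, 11, 17, 10, 15] [32, 32, 32, 31, 32] [26, 26, 27, 26, 27, 27, 27, 26, 27, 26, 26, 26, 27, 27, 27],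
  .edge 39 1 [3] [.fwd 4 [] [], .lett 0, .lett 2, .lett 1, .lett 2, .lett 2, .lett 1, .lett 2, .lett 2, .lett 5, .lett 0, .lett 4, .lett 2, .lett 4, .lett 3, .lett 6, .lett 4, .lett 3, .lett 3, .lett 6, .lett 4, .lett 2, .lett 4, .fwd 29 [12, 10, 12, 15, 12, 10, 16, 11] [26, 26, 27, 26, 26, 26, 27, 27, 27, 27, 26, 26, 27, 26, 27, 27, 27, 26], .lett 1, .lett 1, .lett 7] [.lett 1, .lett 1, .lett 1, .lett 5, .lett 7, .lett 2, .lett 1, .lett 3, .lett 5, .lett 7, .lett 2, .lett 1, .lett 3, .lett 5, .lett 3, .lett 0, .lett 3, .lett 3, .lett 0, .lett 3, .lett 0, .lett 0, .bwd 34 [10, 15, 11, 10, 12, 16, 11, 12, 16] [], .lett 6] [10, 12, 13, 12, 10, 12, 13] [28, 30, 29, 30, 28] [27, 27, 27, 26, 26, 27, 26, 27, 27, 26, 26, 26, 26, 26, 27, 27, 26],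
  .edge 40 2 [0, 0, 0, 0, 6, 4, 8, 0, 8] [.fwd 39 [] []] [.lett 1, .lett 1] [10, 10, 13, 17, 11, 10, 12] [31, 32, 31, 31, 32, 31, 32, 32, 31, 32] [],
  .edge 41 1 [6, 8] [.fwd 29 [] [], .lett 0, .lett 2, .lett 1, .lett 2, .lett 2, .lett 1, .lett 2, .lett 2, .lett 5, .lett 0, .lett 4, .lett 2, .lett 4, .lett 3, .lett 6, .lett 4, .lett 3, .lett 3, .lett 6, .lett 4, .lett 2, .lett 4] [.lett 1, .lett 1, .lett 7, .lett 0, .lett 0, .bwd 38 [10, 14, 16, 10, 11, 13] [], .lett 1, .lett 1, .lett 1, .lett 5, .lett 7, .lett 2, .lett 1, .lett 3, .lett 5, .lett 7, .lett 2, .lett 1, .lett 3, .lett 5, .lett 3, .lett 0, .lett 3, .lett 3, .lett 0, .lett 3, .lett 0, .lett 0, .bwd 34 [11, 13, 14, 16, 15, 10] [31, 32, 32, 32, 31, 32, 32, 31, 32, 31], .lett 6] [15, 10, 13, 11, 10, 12] [29, 29, 29, 28, 30, 30, 29, 30] [26, 26, 26, 27, 27, 27, 26, 26, 26,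 26, 27, 27, 27, 26, 26, 27],
  .edge 42 2 [6, 4, 6, 8] [.fwd 41 [] []] [.lett 1, .lett 1] [10, 10, 12, 14, 15, 15, 11, 12] [32, 31, 32, 32, 32, 31, 31, 31] [],
  .edge 43 1 [6, 8] [.fwd 29 [] [], .lett 1, .lett 1, .lett 7, .lett 3, .fwd 39 [10, 16, 11, 10, 14, 14] [28, 29, 30, 28, 28, 30], .lett 1, .lett 1, .lett 5, .lett 1, .lett 4, .lett 2, .lett 5, .lett 7, .lett 4, .lett 1, .lett 4, .lett 0, .lett 4, .lett 3, .lett 1, .lett 3, .lett 1, .lett 2] [.lett 2, .lett 6, .lett 0, .lett 0, .bwd 34 [11, 12, 15, 14, 10, 11, 13, 16] [], .lett 2, .lett 2, .lett 1, .lett 3, .lett 1, .lett 2, .lett 2, .lett 5, .lett 0, .lett 4, .lett 1, .lett 5, .lett 6, .lett 5, .lett 2, .lett 2, .lett 1, .lett 4, .lett 2] [10, 12, 10, 15, 11, 10, 15, 12] [31, 31, 31, 31, 31, 32, 32, 31, 31, 32, 31] [26, 26, 27, 26, 26, 26, 26, 27, 26, 26, 26, 27, 27, 26, 27,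 27, 26, 27]]

def deds4 : List Ded := [
  .edge 44 1 [6, 8] [.fwd 29 [] [], .lett 1, .lett 1, .lett 7, .fwd 39 [10, 10, 13, 11, 12, 11, 10, 15, 10] [30, 29, 30, 28, 28, 30, 30, 28], .lett 1, .lett 1, .lett 1, .lett 5, .lett 7, .lett 2, .lett 1, .lett 3, .lett 5, .lett 7, .lett 2, .lett 1, .lett 3, .lett 5, .lett 3, .lett 0, .lett 3, .lett 3, .lett 0, .lett 3] [.lett 6, .lett 0, .lett 0, .bwd 34 [10, 10, 11, 10, 14, 12, 16, 11, 10, 12] [], .lett 0, .lett 2, .lett 1, .lett 2, .lett 2, .lett 1, .lett 2, .lett 2, .lett 5, .lett 0, .lett 4, .lett 2, .lett 4, .lett 3, .lett 6, .lett 4, .lett 3, .lett 3, .lett 6, .lett 4, .lett 2, .lett 4] [11, 12, 11, 10, 16, 10, 11, 14, 11] [32, 32, 32, 32, 32, 32, 31, 32, 32, 31] [26, 26, 26, 26, 27, 27, 27, 27, 26, 26, 26, 26, 26, 26, 27, 27, 26, 26, 26, 26, 26],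
  .edge 45 1 [6, 8] [.fwd 29 [] [], .lett 1, .lett 5, .lett 7, .lett 0, .lett 5, .lett 3, .lett 0, .lett 5, .lett 7, .lett 1, .lett 5, .lett 0, .lett 4, .lett 3, .lett 3, .lett 5, .lett 3, .lett 1, .lett 3, .lett 3] [.lett 5, .lett 7, .lett 1, .lett 5, .lett 1, .lett 2, .lett 5, .lett 7, .lett 0, .lett 0, .bwd 34 [11, 15, 16, 15, 10, 12] [], .lett 1, .lett 6, .lett 3, .lett 5, .lett 1, .lett 2, .lett 5, .lett 7, .lett 2, .lett 5, .lett 3, .lett 1, .lett 5, .lett 0, .lett 3, .lett 0, .lett 2, .lett 0, .lett 3] [13, 11, 16, 15, 12] [29, 30, 28, 28, 29, 29, 30] [26, 26, 27, 26, 27, 27, 27, 26, 27, 26, 26, 26, 27, 27, 27],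
  .edge 46 2 [4, 4, 4, 4, 8] [.fwd 45 [] []] [.lett 1, .lett 1] [11, 14, 10, 14, 12, 14, 10, 11] [31, 31, 32, 31, 31] [],
  .edge 47 1 [8] [.fwd 28 [] [], .lett 1, .lett 1, .lett 1, .lett 5, .lett 7, .lett 2, .lett 1, .lett 3, .lett 5, .lett 7, .lett 2, .lett 1, .lett 3, .lett 5, .lett 3, .lett 0, .lett 3, .lett 3, .lett 0, .lett 3, .fwd 34 [10, 11, 12, 11, 13, 15, 14, 11] [27, 26, 27, 26, 27, 27, 27, 26, 26, 26, 27, 27, 27, 26, 27, 27], .lett 6] [.lett 0, .lett 2, .lett 1, .lett 2, .lett 2, .lett 1, .lett 2, .lett 2, .lett 5, .lett 0, .lett 4, .lett 2, .lett 4, .lett 3, .lett 6, .lett 4, .lett 3, .lett 3, .lett 6, .lett 4, .lett 2, .lett 4, .lett 0, .lett 0, .bwd 29 [13, 12, 10, 16, 10, 11, 12] [], .lett 1, .lett 1, .lett 7] [10, 10, 10, 10, 10, 11, 12] [31, 32, 31, 32, 31, 31, 32] [26, 26, 26, 26, 27, 27, 26, 26, 27, 26, 27, 27,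 26, 26, 27, 26, 27, 27],
  .edge 48 3 [0, 4, 1, 4, 0, 0, 5, 1, 5, 0, 4, 1, 4, 0, 0, 6] [.fwd 47 [] []] [.lett 1, .lett 1] [10, 12, 16, 13, 16, 17] [30, 28, 28, 30, 28, 29, 29, 28] [],
  .edge 49 1 [8] [.fwd 28 [] [], .lett 1, .lett 1, .lett 5, .lett 3, .lett 5, .lett 7, .lett 2, .lett 2, .lett 5, .lett 7, .lett 3, .lett 5, .lett 3, .lett 3, .lett 5, .lett 2, .lett 0, .lett 2, .lett 2, .lett 0, .lett 2, .lett 1, .lett 3, .fwd 34 [12, 15, 16, 15, 11, 14] [26, 27, 27, 26, 26, 26, 26, 27, 27, 26, 26, 26, 27, 26, 27, 26, 26], .lett 1, .lett 1, .lett 7, .lett 0, .lett 4, .lett 2, .lett 4, .lett 1, .lett 5, .lett 7, .lett 0, .lett 3, .lett 1, .lett 4, .lett 1, .lett 3, .lett 3, .lett 1, .lett 2, .lett 1] [.lett 2, .lett 0, .lett 3, .lett 1, .lett 3, .lett 3, .lett 1, .lett 3, .lett 4, .lett 2, .lett 2, .lett 4, .lett 2, .lett 6, .lett 4,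 .lett 3, .lett 3, .lett 6, .lett 4, .lett 2, .lett 4, .lett 0, .lett 0, .bwd 34 [15, 11, 12, 16, 11, 12, 10] [], .lett 0, .lett 3, .lett 3, .lett 1, .lett 4, .lett 2, .lett 5, .lett 2, .lett 1, .lett 5, .lett 5, .lett 6, .lett 4, .lett 0, .lett 4, .lett 1, .lett 4, .lett 3, .lett 7] [11, 12, 16, 11, 12, 14, 10, 11] [31, 31, 31, 31, 32, 31, 32, 32, 31, 31, 32] [26, 27, 27, 26, 26, 26, 27, 27, 27, 26, 27, 26, 27, 26, 27],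
  .edge 50 3 [4, 4, 4, 4, 8] [.fwd 49 [] []] [.lett 1, .lett 1] [11, 12, 13, 16, 10, 11, 16, 16] [31, 31, 32, 31, 31, 31, 31] [],
  .edge 51 1 [8] [.fwd 28 [] [], .lett 1, .lett 1, .lett 7, .lett 3, .fwd 34 [10, 13, 14, 11, 14, 10, 12, 11] [26, 27, 27, 27, 27, 26, 26, 27, 26, 26, 27, 26, 27, 26], .lett 1, .lett 1, .lett 5, .lett 1, .lett 4, .lett 2, .lett 5, .lett 7, .lett 4, .lett 1, .lett 4, .lett 0, .lett 4, .lett 3, .lett 1, .lett 3, .lett 1, .lett 2] [.lett 2, .lett 6, .lett 0, .lett 0, .bwd 34 [10, 11, 14, 10, 16, 17, 10] [], .lett 2, .lett 2, .lett 1, .lett 3, .lett 1, .lett 2, .lett 2, .lett 5, .lett 0, .lett 4, .lett 1, .lett 5, .lett 6, .lett 5, .lett 2, .lett 2, .lett 1, .lett 4, .lett 2] [13, 12, 13, 11, 17, 12, 10, 11] [31, 31, 31, 31, 31, 32, 31, 31, 31, 31, 31] [26, 27, 27, 27, 27, 27, 26, 27, 27, 26, 27, 27, 26, 26,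 27],
  .edge 52 3 [0, 0, 0, 2, 2, 0, 3, 3, 2, 0, 3, 0, 1, 4, 0, 2, 2, 0, 3, 3, 1, 4, 0, 2, 0, 3, 8, 1, 5, 1, 7] [.fwd 51 [] []] [.lett 1, .lett 1] [12, 11, 15, 13, 15, 10, 16] [31, 31, 32, 31, 31, 32, 32, 32, 31] [],
  .edge 53 1 [6, 4, 6, 8] [.fwd 34 [] [], .lett 0, .lett 2, .lett 1, .lett 2, .lett 2, .lett 1, .lett 2, .lett 2, .lett 5, .lett 0, .lett 4, .lett 2, .lett 4, .lett 3, .lett 6, .lett 4, .lett 3, .lett 3, .lett 6, .lett 4, .lett 2, .lett 4] [.lett 1, .lett 1, .lett 7, .lett 0, .lett 0, .bwd 51 [10, 12, 15, 10, 15, 10, 13, 11] [], .lett 1, .lett 1, .lett 1, .lett 5, .lett 7, .lett 2, .lett 1, .lett 3, .lett 5, .lett 7, .lett 2, .lett 1, .lett 3, .lett 5, .lett 3, .lett 0, .lett 3, .lett 3, .lett 0, .lett 3, .lett 0, .lett 0, .bwd 34 [10, 12, 13, 14, 15, 14, 10] [31, 31, 31, 31, 32, 31, 32, 32, 31, 31], .lett 6] [11, 12,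 10, 14, 12, 13, 14, 14] [31, 31, 32, 31, 31, 32, 31, 32] [27, 26, 26, 27, 26, 27, 26, 27, 26, 26, 27, 27, 27, 27, 27],
  .edge 54 3 [1, 4, 0, 0, 0, 0, 6] [.fwd 53 [] []] [.lett 1, .lett 1] [10, 10, 12, 16, 16, 10, 17, 11, 10, 12] [31, 31, 31, 32, 32, 31, 32, 32, 32, 32, 31] [],
  .edge 55 1 [6, 4, 6, 8] [.fwd 34 [] [], .lett 1, .lett 1, .lett 5, .lett 3, .lett 5, .lett 7, .lett 2, .lett 2, .lett 5, .lett 7, .lett 3, .lett 5, .lett 3, .lett 3, .lett 5, .lett 2, .lett 0, .lett 2, .lett 2, .lett 0, .lett 2, .lett 1, .lett 3] [.lett 1, .lett 1, .lett 7, .lett 0, .lett 4, .lett 2, .lett 4, .lett 1, .lett 5, .lett 7, .lett 0, .lett 3, .lett 1, .lett 4, .lett 1, .lett 3, .lett 3, .lett 1, .lett 2, .lett 1, .lett 0, .lett 0, .bwd 45 [10, 15, 14, 10, 13, 16] [], .lett 2, .lett 0, .lett 3, .lett 1, .lett 3, .lett 3, .lett 1, .lett 3, .lett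 4, .lett 2, .lett 2, .lett 4, .lett 2, .lett 6, .lett 4, .lett 3, .lett 3, .lett 6, .lett 4, .lett 2, .lett 4, .lett 0, .lett 0, .bwd 29 [10, 12, 15, 10, 17, 11, 10, 12] [30, 30, 30, 30, 30], .lett 0, .lett 3, .lett 3, .lett 1, .lett 4, .lett 2, .lett 5, .lett 2, .lett 1, .lett 5, .lett 5, .lett 6, .lett 4, .lett 0, .lett 4, .lett 1, .lett 4, .lett 3, .lett 7] [13, 13, 12, 14, 10, 17] [32, 32, 32, 31, 32, 31, 32, 31] [26, 26, 26, 26, 26, 26, 27, 26, 26, 27, 27, 27, 26, 27, 27, 26, 26, 27, 27, 27, 27]]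

def deds5 : List Ded := [
  .edge 56 1 [6, 4, 6, 8] [.fwd 34 [] [], .lett 3, .lett 3, .lett 0, .lett 2, .lett 2] [.lett 0, .lett 0, .lett 3, .lett 3, .lett 0, .lett 2, .lett 2, .lett 0, .lett 0, .bwd 34 [16, 10, 15, 15, 15] [], .lett 3, .lett 3, .lett 0, .lett 2, .lett 2] [10, 10, 10, 11, 12] [] [26, 26, 26, 27, 27, 26, 26, 27, 27, 26, 26, 27, 27, 27, 27, 27, 27, 26],
  .edge 57 1 [6, 4, 6, 8] [.fwd 34 [] [], .lett 2, .lett 0, .lett 3, .lett 1, .lett 3, .lett 3, .lett 1, .lett 3, .lett 4, .lett 2, .lett 2, .lett 4, .lett 2, .lett 6, .lett 4, .lett 3, .lett 3, .lett 6, .lett 4, .lett 2, .lett 4, .fwd 43 [10, 10, 10, 13, 15, 16, 12, 11, 10] [31, 31, 31, 31, 32, 32], .lett 0, .lett 3, .lett 3, .lett 1, .lett 4, .lett 2, .lett 5, .lett 2, .lett 1, .lett 5, .lett 5, .lett 6, .lett 4, .lett 0, .lett 4, .lett 1, .lett 4, .lett 3, .lett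 7] [.lett 1, .lett 1, .lett 5, .lett 3, .lett 5, .lett 7, .lett 2, .lett 2, .lett 5, .lett 7, .lett 3, .lett 5, .lett 3, .lett 3, .lett 5, .lett 2, .lett 0, .lett 2, .lett 2, .lett 0, .lett 2, .lett 1, .lett 3, .lett 0, .lett 0, .bwd 34 [10, 10, 12, 11, 14, 11, 13, 12] [], .lett 1, .lett 1, .lett 7, .lett 0, .lett 4, .lett 2, .lett 4, .lett 1, .lett 5, .lett 7, .lett 0, .lett 3, .lett 1, .lett 4, .lett 1, .lett 3, .lett 3, .lett 1, .lett 2, .lett 1] [16, 17, 10, 13, 12] [31, 32, 31, 32, 32, 31, 31, 32, 31] [26, 26, 26, 26, 26, 27, 26, 27, 27, 27, 26, 26, 26, 27, 27, 26, 26, 27, 27],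
  .edge 58 2 [0, 0, 0, 2, 2, 0, 3, 3, 2, 0, 3, 0, 1, 4, 0, 2, 2, 0, 3, 3, 1, 4, 0, 2, 0, 3, 8, 1, 5, 1, 7] [.fwd 33 [] [], .lett 1, .lett 6, .lett 3, .lett 5, .lett 1, .lett 2, .lett 5, .lett 7, .lett 2, .lett 5, .lett 3, .lett 1, .lett 5, .lett 0, .lett 3, .lett 0, .lett 2, .lett 0, .lett 3, .fwd 41 [10, 11, 12, 13, 11, 14, 11, 10] [30, 28, 29, 30, 30], .lett 1, .lett 5, .lett 7, .lett 0, .lett 5, .lett 3, .lett 0, .lett 5, .lett 7, .lett 1, .lett 5, .lett 0, .lett 4, .lett 3, .lett 3, .lett 5, .lett 3, .lett 1, .lett 3, .lett 3] [.lett 5, .lett 7, .lett 1, .lett 5, .lett 1, .lett 2, .lett 5, .lett 7] [14, 10, 17, 12, 16, 11, 14] [31, 31, 31, 32, 31, 31, 32, 31, 32, 32] [],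
  .edge 59 3 [4, 1, 4, 0, 0, 5, 1, 5, 0, 4, 1, 4, 0, 0, 6] [.fwd 58 [] []] [.lett 1, .lett 1] [11, 10, 14, 13, 11, 12, 11, 15] [28, 30, 29, 29, 28, 30, 30, 29] [],
  .edge 60 2 [0, 0, 0, 2, 2, 0, 3, 3, 2, 0, 3, 0, 1, 4, 0, 2, 2, 0, 3, 3, 1, 4, 0, 2, 0, 3, 8, 1, 5, 1, 7] [.fwd 33 [] [], .lett 1, .lett 1, .lett 5, .lett 3, .lett 5, .lett 7, .lett 2, .lett 2, .lett 5, .lett 7, .lett 3, .lett 5, .lett 3, .lett 3, .lett 5, .lett 2, .lett 0, .lett 2, .lett 2, .lett 0, .lett 2, .lett 1, .lett 3, .fwd 45 [10, 11, 12, 10, 16, 15, 10, 10, 14] [28, 28, 28, 29, 30, 30], .lett 1, .lett 1, .lett 7, .lett 0, .lett 4, .lett 2, .lett 4, .lett 1, .lett 5, .lett 7, .lett 0, .lett 3, .lett 1, .lett 4, .lett 1, .lett 3, .lett 3, .lett 1, .lett 2, .lett 1] [.lett 2, .lett 0, .lett 3, .lett 1, .lett 3, .lett 3, .lett 1, .lett 3, .lett 4, .lett 2, .lett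 2, .lett 4, .lett 2, .lett 6, .lett 4, .lett 3, .lett 3, .lett 6, .lett 4, .lett 2, .lett 4, .lett 0, .lett 0, .bwd 59 [10, 11, 14, 13, 12, 13, 15, 10] [], .lett 0, .lett 3, .lett 3, .lett 1, .lett 4, .lett 2, .lett 5, .lett 2, .lett 1, .lett 5, .lett 5, .lett 6, .lett 4, .lett 0, .lett 4, .lett 1, .lett 4, .lett 3, .lett 7] [12, 11, 10, 14, 11, 15, 14] [32, 32, 32, 32, 32, 31] [28, 28, 29, 28, 30],
  .edge 61 2 [0, 0, 0, 2, 2, 0, 3, 3, 2, 0, 3, 0, 1, 4, 0, 2, 2, 0, 3, 3, 1, 4, 0, 2, 0, 3, 8, 1, 5, 1, 7] [.fwd 33 [] [], .lett 1, .lett 1, .lett 5, .lett 1, .lett 4, .lett 2, .lett 5, .lett 7, .lett 4, .lett 1, .lett 4, .lett 0, .lett 4, .lett 3, .lett 1, .lett 3, .lett 1, .lett 2] [.lett 2, .lett 6, .lett 0, .lett 0, .bwd 47 [11, 10, 16, 12, 11, 10, 13] [], .lett 2, .lett 2, .lett 1, .lett 3, .lett 1, .lett 2, .lett 2, .lett 5, .lett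 0, .lett 4, .lett 1, .lett 5, .lett 6, .lett 5, .lett 2, .lett 2, .lett 1, .lett 4, .lett 2, .lett 0, .lett 0, .bwd 45 [10, 10, 11, 10, 14, 15, 12, 17] [31, 32, 32, 32, 32, 32, 31, 31], .lett 1, .lett 1, .lett 7, .lett 3] [11, 10, 12, 11, 14, 12, 15, 16] [28, 30, 28, 29, 30, 28, 30, 30] [30, 29, 29, 28, 30, 30],
  .edge 62 2 [0, 0, 0, 2, 2, 0, 3, 3, 2, 0, 3, 0, 1, 4, 0, 2, 2, 0, 3, 3, 1, 4, 0, 2, 0, 3, 8, 1, 5, 1, 7] [.fwd 33 [] [], .lett 2, .lett 0, .lett 3, .lett 1, .lett 3, .lett 3, .lett 1, .lett 3, .lett 4, .lett 2, .lett 2, .lett 4, .lett 2, .lett 6, .lett 4, .lett 3, .lett 3, .lett 6, .lett 4, .lett 2, .lett 4, .fwd 41 [11, 12, 11, 15, 10, 11, 14, 12] [30, 29, 30, 28, 28, 30], .lett 0, .lett 3, .lett 3, .lett 1, .lett 4, .lett 2, .lett 5, .lett 2, .lett 1, .lett 5, .lett 5, .lett 6, .lett 4, .lett 0, .lett 4, .lett 1, .lett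 4, .lett 3, .lett 7] [.lett 1, .lett 1, .lett 5, .lett 3, .lett 5, .lett 7, .lett 2, .lett 2, .lett 5, .lett 7, .lett 3, .lett 5, .lett 3, .lett 3, .lett 5, .lett 2, .lett 0, .lett 2, .lett 2, .lett 0, .lett 2, .lett 1, .lett 3, .lett 0, .lett 0, .bwd 36 [16, 13, 12, 10, 12, 14, 11, 14] [], .lett 1, .lett 1, .lett 7, .lett 0, .lett 4, .lett 2, .lett 4, .lett 1, .lett 5, .lett 7, .lett 0, .lett 3, .lett 1, .lett 4, .lett 1, .lett 3, .lett 3, .lett 1, .lett 2, .lett 1] [10, 13, 15, 12, 16, 15, 16] [31, 31, 32, 31, 31, 31, 32, 32, 32, 31] [28, 29, 28, 29, 29, 29, 30, 28],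
  .edge 63 2 [0, 1, 4, 0, 0, 5, 1, 5, 0, 4, 1, 4, 0, 0, 6] [.fwd 32 [] [], .lett 2, .lett 0, .lett 3, .lett 1, .lett 3, .lett 3, .lett 1, .lett 3, .lett 4, .lett 2, .lett 2, .lett 4, .lett 2, .lett 6, .lett 4, .lett 3, .lett 3, .lett 6, .lett 4, .lett 2, .lett 4] [.lett 0, .lett 3, .lett 3, .lett 1, .lett 4, .lett 2, .lett 5, .lett 2, .lett 1, .lett 5, .lett 5, .lett 6, .lett 4, .lett 0, .lett 4, .lett 1, .lett 4, .lett 3, .lett 7, .lett 0, .lett 0, .bwd 47 [10, 11, 12, 11, 15, 11, 14, 10] [], .lett 1, .lett 1, .lett 5, .lett 3, .lett 5, .lett 7, .lett 2, .lett 2, .lett 5, .lett 7, .lett 3, .lett 5, .lett 3, .lett 3, .lett 5, .lett 2, .lett 0, .lett 2, .lett 2, .lett 0, .lett 2, .lett 1, .lett 3, .lett 0, .lett 0, .bwd 45 [10, 16, 10, 10, 10, 14, 11, 12] [31, 32, 32, 31, 32, 32, 31], .lett 1, .lett 1, .lett 7, .lett 0, .lett 4, .lett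 2, .lett 4, .lett 1, .lett 5, .lett 7, .lett 0, .lett 3, .lett 1, .lett 4, .lett 1, .lett 3, .lett 3, .lett 1, .lett 2, .lett 1] [12, 16, 11, 16, 15] [30, 30, 28, 29, 28, 28, 30] [30, 28, 29, 28, 30],
  .edge 64 2 [0, 1, 4, 0, 0, 5, 1, 5, 0, 4, 1, 4, 0, 0, 6] [.fwd 32 [] [], .lett 1, .lett 1, .lett 7, .lett 0, .lett 4, .lett 2, .lett 4, .lett 1, .lett 5, .lett 7, .lett 0, .lett 3, .lett 1, .lett 4, .lett 1, .lett 3, .lett 3, .lett 1, .lett 2, .lett 1, .fwd 61 [10, 11, 14, 15, 11, 14, 10, 10] [29, 29, 29, 30, 28, 28, 28], .lett 2, .lett 0, .lett 3, .lett 1, .lett 3, .lett 3, .lett 1, .lett 3, .lett 4, .lett 2, .lett 2, .lett 4, .lett 2, .lett 6, .lett 4, .lett 3, .lett 3, .lett 6, .lett 4, .lett 2, .lett 4] [.lett 0, .lett 3, .lett 3, .lett 1, .lett 4, .lett 2, .lett 5, .lett 2, .lett 1, .lett 5, .lett 5, .lett 6, .lett 4, .lett 0,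 .lett 4, .lett 1, .lett 4, .lett 3, .lett 7, .lett 0, .lett 0, .bwd 59 [12, 14, 10, 14, 15, 11, 14] [], .lett 1, .lett 1, .lett 5, .lett 3, .lett 5, .lett 7, .lett 2, .lett 2, .lett 5, .lett 7, .lett 3, .lett 5, .lett 3, .lett 3, .lett 5, .lett 2, .lett 0, .lett 2, .lett 2, .lett 0, .lett 2, .lett 1, .lett 3] [10, 11, 10, 12, 16, 16, 10] [30, 28, 30, 28, 29] [30, 30, 28, 30, 30, 30, 30],
  .edge 65 2 [0, 1, 4, 0, 1, 4, 0, 1, 4, 0, 1, 4, 0, 2, 6] [.fwd 64 [] []] [.lett 1, .lett 1] [10, 10, 10, 13, 12, 11, 14, 10, 16] [31, 31, 31, 32, 31, 32, 31] [],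
  .edge 66 2 [6, 8] [.fwd 36 [] [], .lett 2, .lett 0, .lett 3, .lett 1, .lett 3, .lett 3, .lett 1, .lett 3, .lett 4, .lett 2, .lett 2, .lett 4, .lett 2, .lett 6, .lett 4, .lett 3, .lett 3, .lett 6, .lett 4, .lett 2, .lett 4] [.lett 0, .lett 3, .lett 3, .lett 1, .lett 4, .lett 2, .lett 5, .lett 2, .lett 1, .lett 5, .lett 5, .lett 6, .lett 4, .lett 0, .lett 4, .lett 1, .lett 4, .lett 3, .lett 7, .lett 0, .lett 0, .bwd 34 [14, 10, 12, 14, 11, 10, 13] [], .lett 1, .lett 1, .lett 5, .lett 3, .lett 5, .lett 7, .lett 2, .lett 2, .lett 5, .lett 7, .lett 3, .lett 5, .lett 3, .lett 3, .lett 5, .lett 2, .lett 0, .lett 2, .lett 2, .lett 0, .lett 2, .lett 1, .lett 3, .lett 0, .lett 0, .bwd 30 [11, 15, 12, 16, 15, 16] [27, 27, 26, 26, 27, 27, 26, 26, 27, 27, 27, 27, 26, 26], .lett 1, .lett 1, .lett 7, .lett 0, .lett 4, .lett 2, .lett 4, .lett 1,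 .lett 5, .lett 7, .lett 0, .lett 3, .lett 1, .lett 4, .lett 1, .lett 3, .lett 3, .lett 1, .lett 2, .lett 1] [10, 10, 13, 14, 11, 12, 10, 13, 11, 12] [31, 32, 32, 31, 31, 31, 31] [30, 28, 30],
  .edge 67 2 [6, 8] [.fwd 36 [] [], .lett 0, .lett 3, .lett 3, .lett 1, .lett 4, .lett 2, .lett 5, .lett 2, .lett 1, .lett 5, .lett 5, .lett 6, .lett 4, .lett 0, .lett 4, .lett 1, .lett 4, .lett 3, .lett 7, .fwd 52 [12, 10, 16, 10, 11, 14, 14] [31, 31, 32, 31, 31, 31, 32, 31, 31, 31, 31, 31], .lett 1, .lett 1, .lett 5, .lett 3, .lett 5, .lett 7, .lett 2, .lett 2, .lett 5, .lett 7, .lett 3, .lett 5, .lett 3, .lett 3, .lett 5, .lett 2, .lett 0, .lett 2, .lett 2, .lett 0, .lett 2, .lett 1, .lett 3] [.lett 1, .lett 1, .lett 7, .lett 0, .lett 4, .lett 2, .lett 4, .lett 1, .lett 5, .lett 7, .lett 0, .lett 3, .lett 1, .lett 4, .lett 1, .lett 3, .lett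 3, .lett 1, .lett 2, .lett 1, .lett 0, .lett 0, .bwd 59 [12, 10, 14, 11, 15, 12, 14, 15] [], .lett 2, .lett 0, .lett 3, .lett 1, .lett 3, .lett 3, .lett 1, .lett 3, .lett 4, .lett 2, .lett 2, .lett 4, .lett 2, .lett 6, .lett 4, .lett 3, .lett 3, .lett 6, .lett 4, .lett 2, .lett 4] [10, 10, 12, 14, 11, 17, 12, 15, 10] [31, 31, 32, 31, 31, 32, 32, 31, 31, 31] [28, 28, 30, 28, 30, 28, 29, 29]]

def deds6 : List Ded := [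
  .edge 68 3 [0, 1, 4, 0, 0, 2, 0, 3, 5, 1, 5, 0, 4, 1, 4, 0, 0, 6, 5, 0, 4, 3, 4, 0] [.fwd 67 [] []] [.lett 1, .lett 1] [10, 16, 10, 10, 10, 15, 10, 10] [31, 32] [],
  .edge 69 2 [6, 4, 6, 8] [.fwd 41 [] [], .lett 3, .lett 3, .lett 0, .lett 2, .lett 2] [.lett 3, .lett 3, .lett 0, .lett 2, .lett 2, .lett 0, .lett 0, .bwd 41 [12, 10, 15, 12] [], .lett 0, .lett 0, .lett 3, .lett 3, .lett 0, .lett 2, .lett 2] [15, 12, 10, 14, 10, 14] [31, 31, 32, 31, 32, 32, 32, 32, 31] [29, 28, 30, 28, 28],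
  .edge 70 2 [0, 1, 4, 0, 0, 5, 1, 5, 0, 4, 1, 4, 0, 0, 6] [.fwd 32 [] [], .lett 2, .lett 2, .lett 1, .lett 3, .lett 1, .lett 2, .lett 2, .lett 5, .lett 0, .lett 4, .lett 1, .lett 5, .lett 6, .lett 5, .lett 2, .lett 2, .lett 1, .lett 4, .lett 2] [.lett 1, .lett 1, .lett 7, .lett 3, .lett 0, .lett 0, .bwd 36 [10, 13, 12, 15, 10, 13, 16, 12] [], .lett 1, .lett 1, .lett 5, .lett 1, .lett 4, .lett 2, .lett 5, .lett 7, .lett 4, .lett 1, .lett 4, .lett 0, .lett 4, .lett 3, .lett 1, .lett 3, .lett 1, .lett 2, .lett 0, .lett 0, .bwd 31 [16, 10, 10, 17, 11] [28, 28, 29, 30, 30, 29, 30], .lett 2, .lett 6] [10, 11, 12, 16, 11, 16, 10, 13, 11] [28, 30, 29, 28, 28, 30, 28] [],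
  .edge 71 2 [1, 4, 0, 0, 0, 0, 6] [.fwd 70 [] []] [.lett 1, .lett 1] [11, 10, 15, 10, 11, 14, 11, 12] [32, 31, 32, 31, 32, 32] [],
  .edge 73 1 [0, 0, 0, 0, 6] [.fwd 72 [] []] [.lett 1, .lett 1] [] [] [],
  .stab 4 33 [2, 2, 0, 3, 3, 0, 1, 4, 0, 2, 0, 3, 2, 4, 3, 2, 0, 3, 1, 4, 0] [.lett 0, .lett 0, .bwd 72 [10, 15, 13, 12, 16, 16] [], .lett 1, .lett 1, .lett 7, .lett 0, .lett 4, .lett 2, .lett 4, .lett 1, .lett 5, .lett 7, .lett 0, .lett 3, .lett 1, .lett 4, .lett 1, .lett 3, .lett 3, .lett 1, .lett 2, .lett 1, .lett 0, .lett 0, .bwd 0 [10, 11, 12, 15, 16, 10, 11, 15, 14] [27, 26, 27, 26, 26, 27, 26, 26, 26, 26, 27, 26, 27], .lett 2, .lett 0, .lett 3, .lett 1, .lett 3, .lett 3, .lett 1, .lett 3, .lett 4, .lett 2, .lett 2, .lett 4, .lett 2, .lett 6, .lett 4, .lett 3, .lett 3, .lett 6, .lett 4, .lett 2, .lett 4, .fwd 0 [] [3, 4, 2,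 0, 2, 0, 3, 2, 2, 0, 3, 3, 2, 0, 3, 4, 2, 2, 0, 3, 3, 8, 1, 3, 6, 4, 0], .lett 0, .lett 3, .lett 3, .lett 1, .lett 4, .lett 2, .lett 5, .lett 2, .lett 1, .lett 5, .lett 5, .lett 6, .lett 4, .lett 0, .lett 4, .lett 1, .lett 4, .lett 3, .lett 7, .fwd 72 [10, 11, 13, 12, 11, 10, 16, 10] [26, 27, 27, 27, 26, 27, 27, 27, 27, 26, 27, 27, 27, 26, 26, 27, 27, 26, 26], .lett 1, .lett 1, .lett 5, .lett 3, .lett 5, .lett 7, .lett 2, .lett 2, .lett 5, .lett 7, .lett 3, .lett 5, .lett 3, .lett 3, .lett 5, .lett 2, .lett 0, .lett 2, .lett 2, .lett 0, .lett 2, .lett 1, .lett 3],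
  .stab 4 34 [0, 0, 0, 2, 0, 3, 2, 4, 3, 3, 4, 2, 0, 3, 4, 2, 0] [.lett 0, .lett 0, .bwd 72 [12, 10, 12, 14, 16, 11, 13] [], .lett 0, .lett 3, .lett 3, .lett 1, .lett 4, .lett 2, .lett 5, .lett 2, .lett 1, .lett 5, .lett 5, .lett 6, .lett 4, .lett 0, .lett 4, .lett 1, .lett 4, .lett 3, .lett 7, .lett 0, .lett 0, .bwd 0 [10, 10, 12, 14, 10, 15, 13, 11] [26, 27, 27, 27, 27, 27, 27, 26, 27, 27, 26, 27, 27, 26, 27, 27], .lett 1, .lett 1, .lett 5, .lett 3, .lett 5, .lett 7, .lett 2, .lett 2, .lett 5, .lett 7, .lett 3, .lett 5, .lett 3, .lett 3, .lett 5, .lett 2, .lett 0, .lett 2, .lett 2, .lett 0, .lett 2, .lett 1, .lett 3, .fwd 0 [] [2, 0, 3, 0, 1, 4, 0, 0, 3, 4, 2, 2, 2, 0, 3, 3, 1, 4, 0, 2, 0, 3, 8, 4, 6, 5], .lett 1, .lett 1, .lett 7, .lett 0, .lett 4, .lett 2, .lett 4, .lett 1, .lett 5, .lett 7, .lett 0, .lett 3, .lett 1, .lett 4,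 .lett 1, .lett 3, .lett 3, .lett 1, .lett 2, .lett 1, .fwd 72 [10, 14, 10, 10, 11, 10, 15, 11] [26, 26, 27, 27, 27, 26, 27, 26, 27, 26, 27, 26, 27, 26, 27, 27], .lett 2, .lett 0, .lett 3, .lett 1, .lett 3, .lett 3, .lett 1, .lett 3, .lett 4, .lett 2, .lett 2, .lett 4, .lett 2, .lett 6, .lett 4, .lett 3, .lett 3, .lett 6, .lett 4, .lett 2, .lett 4],
  .edge 74 1 [3] [.fwd 4 [] [], .lett 1, .lett 1, .lett 5, .lett 1, .lett 4, .lett 2, .lett 5, .lett 7, .lett 4, .lett 1, .lett 4, .lett 0, .lett 4, .lett 3, .lett 1, .lett 3, .lett 1, .lett 2, .fwd 72 [10, 12, 10, 11, 15, 10, 11, 12, 16, 11] [27, 27, 27, 27, 26, 26, 27, 27, 27, 27, 27, 27], .lett 2, .lett 6] [.lett 2, .lett 2, .lett 1, .lett 3, .lett 1, .lett 2, .lett 2, .lett 5, .lett 0, .lett 4, .lett 1, .lett 5, .lett 6, .lett 5, .lett 2, .lett 2, .lett 1, .lett 4, .lett 2, .lett 0,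 .lett 0, .bwd 72 [10, 10, 10, 10, 10, 10] [], .lett 1, .lett 1, .lett 7, .lett 3] [10, 11, 10, 13, 15, 17, 12, 13] [33, 33, 33, 34, 33] [],
  .edge 75 1 [0, 0, 0, 0, 6] [.fwd 72 [] [], .lett 6] [.lett 0, .lett 2, .lett 1, .lett 2, .lett 2, .lett 1, .lett 2, .lett 2, .lett 5, .lett 0, .lett 4, .lett 2, .lett 4, .lett 3, .lett 6, .lett 4, .lett 3, .lett 3, .lett 6, .lett 4, .lett 2, .lett 4, .lett 0, .lett 0, .bwd 29 [12, 10, 11, 15, 10, 11, 12, 14] [], .lett 1, .lett 1, .lett 7, .lett 0, .lett 0, .bwd 28 [10, 10, 13, 13, 15, 11, 10] [26, 26, 26, 26, 27, 26, 26, 27, 26, 27, 26, 27, 27, 27, 26, 27, 26, 26, 26, 26, 27], .lett 1, .lett 1, .lett 1, .lett 5, .lett 7, .lett 2, .lett 1, .lett 3, .lett 5, .lett 7, .lett 2, .lett 1, .lett 3, .lett 5, .lett 3, .lett 0, .lett 3, .lett 3, .lett 0, .lett 3] [12, 11, 10, 13, 12, 14, 14] [33, 33,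 33, 34, 34, 34, 34, 34, 34, 34] [26, 26, 27, 26, 27, 26, 26, 26, 26, 27, 26, 27, 27, 27, 26],
  .edge 76 4 [4, 4, 4, 4, 8] [.fwd 75 [] []] [.lett 1, .lett 1] [11, 16, 17, 11] [29, 30, 29, 30, 29, 30] [],
  .edge 77 1 [0, 0, 0, 0, 6] [.fwd 72 [] [], .lett 5, .lett 7, .lett 1, .lett 5, .lett 1, .lett 2, .lett 5, .lett 7] [.lett 1, .lett 6, .lett 3, .lett 5, .lett 1, .lett 2, .lett 5, .lett 7, .lett 2, .lett 5, .lett 3, .lett 1, .lett 5, .lett 0, .lett 3, .lett 0, .lett 2, .lett 0, .lett 3, .lett 0, .lett 0, .bwd 72 [10, 10, 10, 11, 16, 11, 17, 10] [], .lett 1, .lett 5, .lett 7, .lett 0, .lett 5, .lett 3, .lett 0, .lett 5, .lett 7, .lett 1, .lett 5, .lett 0, .lett 4, .lett 3, .lett 3, .lett 5, .lett 3, .lett 1, .lett 3, .lett 3] [14, 10, 13, 12, 11, 17, 10, 12] [34, 34, 34, 34, 33, 34, 34, 34, 33, 34] [26, 26, 26, 27, 26, 26, 26, 26,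 27, 26, 27, 26, 26, 27, 27, 26, 26, 26],
  .edge 78 1 [0, 0, 0, 0, 6] [.fwd 72 [] [], .lett 1, .lett 6, .lett 3, .lett 5, .lett 1, .lett 2, .lett 5, .lett 7, .lett 2, .lett 5, .lett 3, .lett 1, .lett 5, .lett 0, .lett 3, .lett 0, .lett 2, .lett 0, .lett 3] [.lett 1, .lett 5, .lett 7, .lett 0, .lett 5, .lett 3, .lett 0, .lett 5, .lett 7, .lett 1, .lett 5, .lett 0, .lett 4, .lett 3, .lett 3, .lett 5, .lett 3, .lett 1, .lett 3, .lett 3, .lett 0, .lett 0, .bwd 34 [10, 11, 12, 11, 15, 14, 11, 15, 10] [], .lett 5, .lett 7, .lett 1, .lett 5, .lett 1, .lett 2, .lett 5, .lett 7] [10, 10, 10, 10, 15, 13, 15] [33, 33, 34, 34, 33, 34, 33, 33, 34, 33, 34] [26, 26, 27, 26, 26, 27, 26, 27, 27, 26, 26, 27, 26, 26, 26, 26, 26, 27, 27]]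

def deds7 : List Ded := [
  .edge 79 4 [0, 0, 0, 0, 6, 4, 8, 0, 8] [.fwd 78 [] []] [.lett 1, .lett 1] [10, 10, 11, 17, 10, 15, 10, 12] [31, 32, 31, 31, 31, 31, 32, 32, 32, 32] [],
  .edge 80 1 [0, 0, 0, 0, 6] [.fwd 72 [] [], .lett 0, .lett 3, .lett 3, .lett 1, .lett 4, .lett 2, .lett 5, .lett 2, .lett 1, .lett 5, .lett 5, .lett 6, .lett 4, .lett 0, .lett 4, .lett 1, .lett 4, .lett 3, .lett 7] [.lett 1, .lett 1, .lett 5, .lett 3, .lett 5, .lett 7, .lett 2, .lett 2, .lett 5, .lett 7, .lett 3, .lett 5, .lett 3, .lett 3, .lett 5, .lett 2, .lett 0, .lett 2, .lett 2, .lett 0, .lett 2, .lett 1, .lett 3, .lett 0, .lett 0, .bwd 29 [12, 10, 16, 15, 10, 11, 10, 14] [], .lett 1, .lett 1, .lett 7, .lett 0, .lett 4, .lett 2, .lett 4, .lett 1, .lett 5, .lett 7, .lett 0, .lett 3, .lett 1, .lett 4, .lett 1, .lett 3, .lett 3, .lett 1, .lett 2, .lett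 1, .lett 0, .lett 0, .bwd 28 [10, 13, 16, 10, 11, 17] [26, 26, 26, 26, 26, 27, 26, 27, 26, 26, 26, 26, 27, 26, 27, 27, 27, 26, 26], .lett 2, .lett 0, .lett 3, .lett 1, .lett 3, .lett 3, .lett 1, .lett 3, .lett 4, .lett 2, .lett 2, .lett 4, .lett 2, .lett 6, .lett 4, .lett 3, .lett 3, .lett 6, .lett 4, .lett 2, .lett 4] [10, 10, 12, 11, 14, 10, 16, 11, 17] [34, 34, 34, 33, 34, 33, 34, 33, 33, 33, 33] [26, 26, 27, 26, 27, 26, 26, 26, 26, 27, 26, 27, 27, 27, 26],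
  .edge 81 4 [1, 4, 0, 8] [.fwd 80 [] []] [.lett 1, .lett 1] [12, 13, 14, 10, 16, 17] [28, 29, 30, 28, 30, 28, 28, 28] [],
  .edge 82 1 [0, 0, 0, 0, 6] [.fwd 72 [] [], .lett 3, .lett 3, .lett 0, .lett 2, .lett 2] [.lett 0, .lett 0, .lett 3, .lett 3, .lett 0, .lett 2, .lett 2, .lett 0, .lett 0, .bwd 34 [10, 12, 11, 15, 10, 17, 11] [], .lett 3, .lett 3, .lett 0, .lett 2, .lett 2] [10, 10, 10, 11, 12] [] [27, 27, 27, 26, 26, 27, 26, 27, 27, 26, 26, 26, 26, 26, 27, 27, 26],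
  .edge 83 4 [3] [.fwd 82 [] []] [.lett 1, .lett 1] [12, 10, 14, 12, 17] [] [],
  .edge 84 1 [6, 8] [.fwd 29 [] [], .lett 0, .lett 3, .lett 3, .lett 1, .lett 4, .lett 2, .lett 5, .lett 2, .lett 1, .lett 5, .lett 5, .lett 6, .lett 4, .lett 0, .lett 4, .lett 1, .lett 4, .lett 3, .lett 7] [.lett 1, .lett 1, .lett 5, .lett 3, .lett 5, .lett 7, .lett 2, .lett 2, .lett 5, .lett 7, .lett 3, .lett 5, .lett 3, .lett 3, .lett 5, .lett 2, .lett 0, .lett 2, .lett 2, .lett 0, .lett 2, .lett 1, .lett 3, .lett 0, .lett 0, .bwd 79 [10, 10, 12, 10, 16, 17, 10, 13] [], .lett 1, .lett 1, .lett 7, .lett 0, .lett 4, .lett 2, .lett 4, .lett 1, .lett 5, .lett 7, .lett 0, .lett 3, .lett 1, .lett 4, .lett 1, .lett 3, .lett 3, .lett 1, .lett 2, .lett 1, .lett 0, .lett 0, .bwd 34 [10, 11, 16, 12, 10, 13, 14, 11] [31, 32, 32, 32, 32, 32, 31, 31, 32, 32, 31],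 .lett 2, .lett 0, .lett 3, .lett 1, .lett 3, .lett 3, .lett 1, .lett 3, .lett 4, .lett 2, .lett 2, .lett 4, .lett 2, .lett 6, .lett 4, .lett 3, .lett 3, .lett 6, .lett 4, .lett 2, .lett 4] [11, 13, 12, 16, 11, 14] [28, 29, 30, 28, 29, 28, 30] [26, 26, 26, 26, 27, 27, 27, 27, 26, 26, 26, 26, 26, 26, 27, 27, 26, 26, 26, 26, 26],
  .edge 85 2 [2, 2, 0, 3, 3, 2, 0, 3, 4, 5, 1, 5, 0, 4, 1, 4, 0, 2, 0, 3, 2, 2, 0, 3, 3, 6] [.fwd 84 [] []] [.lett 1, .lett 1] [11, 16, 10, 15, 13, 16, 17] [33, 33, 34, 33, 33, 33, 33, 33, 34, 33, 33, 34, 33, 33] [],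
  .edge 86 1 [8] [.fwd 28 [] [], .lett 0, .lett 3, .lett 3, .lett 1, .lett 4, .lett 2, .lett 5, .lett 2, .lett 1, .lett 5, .lett 5, .lett 6, .lett 4, .lett 0, .lett 4, .lett 1, .lett 4, .lett 3, .lett 7, .fwd 72 [10, 11, 16, 10, 12, 10, 15, 10, 12] [26, 26, 26, 26, 26, 26, 26, 27, 26, 26, 26, 26, 26, 27, 26, 26, 26, 26, 26], .lett 1, .lett 1, .lett 5, .lett 3, .lett 5, .lett 7, .lett 2, .lett 2, .lett 5, .lett 7, .lett 3, .lett 5, .lett 3, .lett 3, .lett 5, .lett 2, .lett 0, .lett 2, .lett 2, .lett 0, .lett 2, .lett 1, .lett 3] [.lett 1, .lett 1, .lett 7, .lett 0, .lett 4, .lett 2, .lett 4, .lett 1, .lett 5, .lett 7, .lett 0, .lett 3, .lett 1, .lett 4, .lett 1, .lett 3, .lett 3, .lett 1, .lett 2, .lett 1, .lett 0, .lett 0, .bwd 34 [10, 11, 10, 12, 15, 15, 10, 13, 11] [], .lett 2, .lett 0, .lett 3, .lett 1, .lett 3, .lett 3, .lett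 1, .lett 3, .lett 4, .lett 2, .lett 2, .lett 4, .lett 2, .lett 6, .lett 4, .lett 3, .lett 3, .lett 6, .lett 4, .lett 2, .lett 4] [16, 12, 11, 10, 15, 10, 12, 10, 11] [34, 33, 33, 33, 33, 34, 33, 33, 33, 33, 33] [26, 26, 27, 26, 26, 26, 27, 27, 26, 26, 27, 27, 27, 27, 27, 26, 26, 26, 26],
  .edge 87 4 [0, 1, 4, 0, 0, 1, 4, 0, 0, 0, 0, 6] [.fwd 86 [] []] [.lett 1, .lett 1] [10, 10, 11, 12, 10, 15, 14, 10, 17] [31, 31, 31, 31, 32, 31, 31, 31, 31, 31, 32] [],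
  .edge 88 2 [0, 0, 0, 0, 6, 4, 8, 0, 8] [.fwd 39 [] [], .lett 1, .lett 1, .lett 7, .lett 0, .lett 4, .lett 2, .lett 4, .lett 1, .lett 5, .lett 7, .lett 0, .lett 3, .lett 1, .lett 4, .lett 1, .lett 3, .lett 3, .lett 1, .lett 2, .lett 1, .fwd 87 [13, 15, 15, 10, 13, 12, 11] [31, 31, 32, 31, 31, 32, 31, 32, 32], .lett 2, .lett 0, .lett 3, .lett 1, .lett 3, .lett 3, .lett 1, .lett 3, .lett 4, .lett 2, .lett 2, .lett 4, .lett 2, .lett 6, .lett 4, .lett 3, .lett 3, .lett 6, .lett 4, .lett 2, .lett 4] [.lett 0, .lett 3, .lett 3, .lett 1, .lett 4, .lett 2, .lett 5, .lett 2, .lett 1, .lett 5, .lett 5, .lett 6, .lett 4, .lett 0, .lett 4, .lett 1, .lett 4, .lett 3, .lett 7, .lett 0, .lett 0, .bwd 81 [13, 12, 10, 12, 13, 12, 10, 11, 12] [], .lett 1, .lett 1, .lett 5, .lett 3, .lett 5, .lett 7, .lett 2, .lett 2, .lett 5, .lett 7, .lett 3, .lett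 5, .lett 3, .lett 3, .lett 5, .lett 2, .lett 0, .lett 2, .lett 2, .lett 0, .lett 2, .lett 1, .lett 3] [15, 11, 10, 15, 12, 16, 16] [34, 33, 33, 33, 33, 34, 33, 34, 34, 33, 34, 33] [28, 29, 30, 28, 29],
  .edge 89 3 [0, 8] [.fwd 40 [] [], .lett 1, .lett 1, .lett 5, .lett 3, .lett 5, .lett 7, .lett 2, .lett 2, .lett 5, .lett 7, .lett 3, .lett 5, .lett 3, .lett 3, .lett 5, .lett 2, .lett 0, .lett 2, .lett 2, .lett 0, .lett 2, .lett 1, .lett 3] [.lett 1, .lett 1, .lett 7, .lett 0, .lett 4, .lett 2, .lett 4, .lett 1, .lett 5, .lett 7, .lett 0, .lett 3, .lett 1, .lett 4, .lett 1, .lett 3, .lett 3, .lett 1, .lett 2, .lett 1, .lett 0, .lett 0, .bwd 87 [10, 13, 11, 10, 13, 11, 14, 11] [], .lett 2, .lett 0, .lett 3, .lett 1, .lett 3, .lett 3, .lett 1, .lett 3, .lett 4, .lett 2, .lett 2, .lett 4, .lett 2, .lett 6, .lett 4, .lett 3, .lett 3,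 .lett 6, .lett 4, .lett 2, .lett 4, .lett 0, .lett 0, .bwd 54 [12, 14, 10, 14, 12, 14, 14, 11] [32, 32, 32, 32, 32, 32, 32], .lett 0, .lett 3, .lett 3, .lett 1, .lett 4, .lett 2, .lett 5, .lett 2, .lett 1, .lett 5, .lett 5, .lett 6, .lett 4, .lett 0, .lett 4, .lett 1, .lett 4, .lett 3, .lett 7] [12, 16, 11, 17, 12, 14, 10, 11] [30, 28, 28, 30, 28, 28, 28] [32, 32, 32, 32, 32],
  .edge 90 2 [4, 6, 8] [.fwd 89 [] []] [.lett 1, .lett 1] [10, 10, 11, 10, 14, 11, 12, 14, 11, 13] [33, 33, 33, 34, 33, 33, 34, 33, 33, 33, 33, 33] []]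

def known0 : Known := ⟨[(0, 0), (0, 1), (0, 2), (0, 3), (0, 4), (0, 5), (0, 6), (0, 7), (0, 8), (0, 9)], [72, 34, 29, 0]⟩

def known1 : Known := ⟨[(0, 0), (0, 1), (0, 2), (0, 3), (0, 4), (0, 5), (0, 6), (0, 7), (0, 8), (0, 9)], [12, 11, 10, 9, 8, 7, 6, 5, 4, 3, 2, 1, 72, 34, 29, 0]⟩

def known2 : Known := ⟨[(0, 0), (0, 1), (0, 2), (0, 3), (0, 4), (0, 5), (0, 6), (0, 7), (0, 8), (0, 9)], [24, 23, 22, 21, 20, 19, 18, 17, 16, 15, 14, 13, 12, 11, 10, 9, 8, 7, 6, 5, 4, 3, 2, 1, 72, 34, 29, 0]⟩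

def known3 : Known := ⟨[(2, 30), (2, 29), (2, 28), (1, 27), (1, 26), (0, 0), (0, 1), (0, 2), (0, 3), (0, 4), (0, 5), (0, 6), (0, 7), (0, 8), (0, 9)], [32, 31, 30, 28, 27, 26, 25, 24, 23, 22, 21, 20, 19, 18, 17, 16, 15, 14, 13, 12, 11, 10, 9, 8, 7, 6, 5, 4, 3, 2, 1, 72, 34, 29, 0]⟩

def known4 : Known := ⟨[(3, 32), (3, 31), (2, 30), (2, 29), (2, 28), (1, 27), (1, 26), (0, 0), (0, 1), (0, 2), (0, 3), (0, 4), (0, 5), (0, 6), (0, 7), (0, 8), (0, 9)], [43, 42, 41, 40, 39, 38, 37, 36, 35, 33, 32, 31, 30, 28, 27, 26, 25, 24, 23, 22, 21, 20, 19, 18, 17, 16, 15, 14, 13, 12, 11, 10, 9, 8, 7, 6, 5, 4, 3, 2, 1, 72, 34, 29, 0]⟩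

def known5 : Known := ⟨[(3, 32), (3, 31), (2, 30), (2, 29), (2, 28), (1, 27), (1, 26), (0, 0), (0, 1), (0, 2), (0, 3), (0, 4), (0, 5), (0, 6), (0, 7), (0, 8), (0, 9)], [55, 54, 53, 52, 51, 50, 49, 48, 47, 46, 45, 44, 43, 42, 41, 40, 39, 38, 37, 36, 35, 33, 32, 31, 30, 28, 27, 26, 25, 24, 23, 22, 21, 20, 19, 18, 17, 16, 15, 14, 13, 12, 11, 10, 9, 8, 7, 6, 5, 4, 3, 2, 1, 72, 34, 29, 0]⟩

def known6 : Known := ⟨[(3, 32), (3, 31), (2, 30), (2, 29), (2, 28), (1, 27), (1, 26), (0, 0), (0, 1), (0, 2), (0, 3), (0, 4), (0, 5), (0, 6), (0, 7), (0, 8), (0, 9)], [67, 66, 65, 64, 63, 62, 61, 60, 59, 58, 57, 56, 55, 54, 53, 52, 51, 50, 49, 48, 47, 46, 45, 44, 43, 42, 41, 40, 39, 38, 37, 36, 35, 33, 32, 31, 30, 28, 27, 26, 25, 24, 23, 22, 21, 20, 19, 18, 17, 16, 15, 14, 13, 12, 11, 10, 9, 8, 7, 6, 5, 4, 3, 2, 1, 72, 34, 29, 0]⟩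

def known7 : Known := ⟨[(4, 34), (4, 33), (3, 32), (3, 31), (2, 30), (2, 29), (2, 28), (1, 27), (1, 26), (0, 0), (0, 1), (0, 2), (0, 3), (0, 4), (0, 5), (0, 6), (0, 7), (0, 8), (0, 9)], [78, 77, 76, 75, 74, 73, 71, 70, 69, 68, 67, 66, 65, 64, 63, 62, 61, 60, 59, 58, 57, 56, 55, 54, 53, 52, 51, 50, 49, 48, 47, 46, 45, 44, 43, 42, 41, 40, 39, 38, 37, 36, 35, 33, 32, 31, 30, 28, 27, 26, 25, 24, 23, 22, 21, 20, 19, 18, 17, 16, 15, 14, 13, 12, 11, 10, 9, 8, 7, 6, 5, 4, 3, 2, 1, 72, 34, 29, 0]⟩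

def known8 : Known := ⟨[(4, 34), (4, 33), (3, 32), (3, 31), (2, 30), (2, 29), (2, 28), (1, 27), (1, 26), (0, 0), (0, 1), (0, 2), (0, 3), (0, 4), (0, 5), (0, 6), (0, 7), (0, 8), (0, 9)], [90, 89, 88, 87, 86, 85, 84, 83, 82, 81, 80, 79, 78, 77, 76, 75, 74, 73, 71, 70, 69, 68, 67, 66, 65, 64, 63, 62, 61, 60, 59, 58, 57, 56, 55, 54, 53, 52, 51, 50, 49, 48, 47, 46, 45, 44, 43, 42, 41, 40, 39, 38, 37, 36, 35, 33, 32, 31, 30, 28, 27, 26, 25, 24, 23, 22, 21, 20, 19, 18, 17, 16, 15, 14, 13, 12, 11, 10, 9, 8, 7, 6, 5, 4, 3, 2, 1, 72, 34, 29, 0]⟩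


end H97.Ly.Data
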