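import Mathlib

/-! The defining relators in coded letters, and where each path comes from (generated data). -/

set_option autoImplicit false

namespace H97.Ly.Data

def origTab : List (List ℕ) := [
  [0, 0, 3, 3],
  [5, 5, 2, 4, 4, 0, 5, 5, 2, 4, 4, 0, 5, 5, 2, 4, 4, 0, 2, 2],
  [7, 9, 3, 7, 3, 4, 7, 9, 0, 3, 8, 5, 7, 3, 4, 7, 9, 4, 7, 5, 3, 7, 2, 5, 2, 4, 2, 5, 0, 3, 7, 9, 2, 7, 5, 2, 7, 9, 3, 7, 2, 6, 5, 5, 7, 5, 3, 5, 5, 0],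
  [1, 9, 1, 3, 7, 9, 4, 3, 5, 7, 9, 4, 3, 5, 7, 5, 2, 5, 5, 2, 5, 0, 8, 0, 2, 4, 3, 4, 4, 3, 4, 4, 7, 2, 6, 4, 6, 5, 8, 6, 5, 5, 8, 6, 4, 6],
  [0, 4, 2, 5, 3, 5, 5, 3, 5, 6, 4, 4, 6, 4, 8, 6, 5, 5, 8, 6, 4, 6, 0, 2, 5, 5, 3, 6, 4, 7, 4, 3, 7, 7, 8, 6, 2, 6, 3, 6, 5, 9, 1, 7, 5, 7, 9, 4, 4, 7, 9, 5, 7, 5, 5, 7, 4, 2, 4, 4, 2, 4, 3, 5, 1, 9, 2, 6, 4, 6, 3, 7, 9, 2, 5, 3, 6, 3, 5, 5, 3, 4, 3],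
  [0, 4, 8, 0, 4, 4, 3, 5, 3, 4, 4, 7, 2, 6, 3, 7, 8, 7, 4, 4, 3, 6, 4, 1, 9, 5, 1, 7, 3, 6, 4, 7, 9, 6, 3, 6, 2, 6, 5, 3, 5, 3, 4],
  [1, 2, 0, 2, 2, 2],
  [1, 4, 2, 5, 0, 2, 2, 4, 2, 5],
  [1, 4, 4, 2, 5, 5, 0, 2, 4, 4, 3, 5, 5, 3],
  [1, 6, 0, 3, 5, 6, 3, 4, 6, 5, 2, 4, 2],
  [1, 3, 6, 2, 0, 5, 7, 5, 2, 7, 3, 4, 4],
  [1, 5, 6, 4, 0, 3, 5, 3, 7, 2, 4, 2],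
  [1, 4, 6, 5, 0, 5, 3, 4, 7, 5, 2, 4],
  [1, 7, 3, 7, 2, 6, 3, 6, 2, 0, 6, 4, 4, 7, 3, 5, 7, 4, 2, 5, 5]]

def relSrc : List (ℕ × ℕ) := [(0, 0), (2, 8), (1, 17), (2, 28), (2, 49), (2, 8), (1, 11), (2, 49), (1, 11), (2, 28), (0, 1), (0, 2), (3, 27), (4, 0), (4, 42), (5, 28), (5, 0), (5, 23), (4, 42), (5, 3), (3, 27), (3, 27), (5, 23), (3, 0), (3, 4), (4, 42), (4, 0), (5, 28), (4, 0), (4, 66), (4, 22), (1, 5), (5, 3), (4, 66), (4, 22), (3, 25), (4, 22)]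

end H97.Ly.Data
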