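import Mathlib
import Cfsg.Prelude.Def_Spor_Ly

/-! Values of the auxiliary generators in coded letters (generated data). -/

set_option autoImplicit false

namespace H97.Ly.Data

open Cfsg.Spor.Ly (Gen)

def subCode : Gen → List ℕ
  | .a => [2]
  | .b => [4]
  | .c => [6]
  | .d => [8]
  | .z => [0]
  | .e => [10]
  | .a1 => [2]
  | .a2 => [4, 2, 5]
  | .a3 => [4, 4, 2, 5, 5]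
  | .a4 => [5, 5, 2, 4, 4]
  | .c1 => [6]
  | .c2 => [3, 6, 2]
  | .c3 => [5, 6, 4]
  | .c4 => [4, 6, 5]
  | .c5 => [7, 3, 7, 2, 6, 3, 6, 2]
  | .u => [2, 2]
  | .x23 => [8]
  | .x24 => [9]
  | .x25 => [4, 4, 3, 5, 3, 4, 4, 7, 2, 6, 3, 7, 8, 7, 4, 4, 3, 6, 4]
  | .x29 => [2, 4, 3, 4, 4, 3, 4, 4, 7, 2, 6, 4, 6, 5, 8, 6, 5, 5, 8, 6, 4, 6]
  | .x47 => [7, 9, 3, 7, 3, 4, 7, 9]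
  | .x96 => [4, 8]
  | .x129 => [9, 5]
  | .x162 => [3, 5, 3, 4, 7, 5, 2, 7, 4, 2]
  | .x163 => [5, 5, 2, 6, 3, 4, 6, 4]
  | .x164 => [3, 5, 3, 6, 2, 4, 2]
  | .x165 => [5, 3, 4, 6, 5, 2, 4]
  | .x166 => [4, 4, 3, 5, 6, 4, 2, 6, 5, 5, 7]
  | .x167 => [3, 3, 3]
  | .x168 => [4, 3, 5, 3, 3]
  | .x169 => [2, 4, 4, 2, 5, 5, 3]
  | .x364 => [3, 8, 5, 7, 3, 4, 7, 9, 4, 7, 5, 3, 7, 2, 5, 2, 4, 2, 5]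
  | .x365 => [2, 5, 5, 3, 6, 4, 7, 4, 3, 7, 7, 8, 6, 2, 6, 3, 6, 5, 9]
  | .x366 => [4, 2, 5, 3, 5, 5, 3, 5, 6, 4, 4, 6, 4, 8, 6, 5, 5, 8, 6, 4, 6]
  | .x367 => [7, 5, 7, 9, 4, 4, 7, 9, 5, 7, 5, 5, 7, 4, 2, 4, 4, 2, 4, 3, 5]
  | .x368 => [3, 7, 9, 2, 7, 5, 2, 7, 9, 3, 7, 2, 6, 5, 5, 7, 5, 3, 5, 5]
  | .x369 => [3, 7, 9, 4, 3, 5, 7, 9, 4, 3, 5, 7, 5, 2, 5, 5, 2, 5]
  | .x370 => [9, 2, 6, 4, 6, 3, 7, 9, 2, 5, 3, 6, 3, 5, 5, 3, 4, 3]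
  | .x371 => [7, 3, 6, 4, 7, 9, 6, 3, 6, 2, 6, 5, 3, 5, 3, 4]

end H97.Ly.Data
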